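import Mathlib

/-!
Sign matrices that are commutators `B S B⁻¹ S⁻¹` in `GL` with `B` annihilated by a fixed polynomial
whose reverse does not vanish on the spectrum of `B`.
-/

set_option autoImplicit false
set_option linter.unusedSectionVars false

open Matrix

namespace Cfsg.Lib.SympComm

universe u

variable {F : Type u} [Field F]

/-- Horner evaluation of a coefficient list. -/
def hor {R : Type*} [Semiring R] {ι : Type} [Fintype ι] [DecidableEq ι] :
    List R → Matrix ι ι R → Matrix ι ι R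
  | [], _ => 0
  | a :: l, B => a • (1 : Matrix ι ι R) + B * hor l B

section hor

variable {ι κ : Type} [Fintype ι] [DecidableEq ι] [Fintype κ] [DecidableEq κ]

theorem hor_fromBlocks (B : Matrix ι ι F) (B' : Matrix κ κ F) :
    ∀ l : List F, hor l (fromBlocks B 0 0 B') = fromBlocks (hor l B) 0 0 (hor l B')
  | [] => by simp [hor]
  | a :: l => by
    simp [hor, hor_fromBlocks B B' l, fromBlocks_multiply, ← fromBlocks_one, fromBlocks_smul, fromBlocks_add]

theorem hor_submatrix (e : κ ≃ ι) (B : Matrix ι ι F) :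
    ∀ l : List F, hor l (B.submatrix e e) = (hor l B).submatrix e e
  | [] => by ext; simp [hor]
  | a :: l => by
    simp only [hor, hor_submatrix e B l, Matrix.submatrix_mul_equiv]
    ext i j
    simp [Matrix.one_apply, e.injective.eq_iff]

theorem hor_map {R : Type*} [CommRing R] (φ : R →+* F) (B : Matrix ι ι R) :
    ∀ l : List R, hor (l.map φ) (B.map φ) = (hor l B).map φ
  | [] => by ext; simp [hor]
  | a :: l => by
    simp only [List.map_cons, hor, hor_map φ B l, ← Matrix.map_mul]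
    ext i j
    simp only [Matrix.add_apply, Matrix.smul_apply, Matrix.map_apply, Matrix.one_apply, map_add, smul_eq_mul,
      map_mul]
    by_cases h : i = j <;> simp [h]

/-- `X Bᵀ = B⁻¹ X` transports evaluations. -/
theorem hor_intertwine {B Bi X : Matrix ι ι F} (h : X * Bᵀ = Bi * X) :
    ∀ l : List F, X * (hor l B)ᵀ = hor l Bi * X
  | [] => by simp [hor]
  | a :: l => by
    simp only [hor, transpose_add, transpose_smul, transpose_one, transpose_mul, mul_add, add_mul,
      Matrix.mul_smul, Matrix.smul_mul, one_mul, mul_one]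
    congr 1
    have hc : ∀ m : List F, hor m B * B = B * hor m B := by
      intro m
      induction m with
      | nil => simp [hor]
      | cons b m ih => simp [hor, add_mul, mul_add, Matrix.mul_assoc, ih]
    rw [← transpose_mul, ← hc, transpose_mul, ← Matrix.mul_assoc, h, Matrix.mul_assoc, hor_intertwine h l,
      Matrix.mul_assoc]

end hor

/-- The diagonal matrix of a sign pattern. -/
def sgn {ι : Type} [DecidableEq ι] (σ : ι → Bool) : Matrix ι ι F :=
  diagonal fun i => if σ i then -1 else 1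

/-- `A = B S B⁻¹ S⁻¹` with `l(B) = 0` and `l(B⁻¹)` invertible. -/
def Adm (l : List F) {ι : Type} [Fintype ι] [DecidableEq ι] (A : Matrix ι ι F) : Prop :=
  ∃ B Bi S Si N : Matrix ι ι F, B * Bi = 1 ∧ S * Si = 1 ∧ B * S * Bi * Si = A ∧
    hor l B = 0 ∧ hor l Bi * N = 1

/-- The map `X ↦ B X Bᵀ - X` is injective. -/
theorem Adm.injective {l : List F} {ι : Type} [Fintype ι] [DecidableEq ι] {B Bi N X : Matrix ι ι F}
    (hB : B * Bi = 1) (h0 : hor l B = 0) (hN : hor l Bi * N = 1) (hX : B * X * Bᵀ = X) : X = 0 := by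
  have h1 : X * Bᵀ = Bi * X := by
    calc X * Bᵀ = (Bi * B) * (X * Bᵀ) := by rw [mul_eq_one_comm.mp hB, one_mul]
      _ = Bi * X := by rw [Matrix.mul_assoc, ← Matrix.mul_assoc B, hX]
  have h2 := hor_intertwine h1 l
  rw [h0, transpose_zero, mul_zero] at h2
  calc X = (N * hor l Bi) * X := by rw [mul_eq_one_comm.mp hN, one_mul]
    _ = 0 := by rw [Matrix.mul_assoc, ← h2, mul_zero]

theorem Adm.block {l : List F} {ι κ : Type} [Fintype ι] [DecidableEq ι] [Fintype κ] [DecidableEq κ]
    {A : Matrix ι ι F} {A' : Matrix κ κ F} (h : Adm l A) (h' : Adm l A') :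
    Adm l (fromBlocks A 0 0 A') := by
  obtain ⟨B, Bi, S, Si, N, h1, h2, h3, h4, h5⟩ := h
  obtain ⟨B', Bi', S', Si', N', g1, g2, g3, g4, g5⟩ := h'
  refine ⟨fromBlocks B 0 0 B', fromBlocks Bi 0 0 Bi', fromBlocks S 0 0 S', fromBlocks Si 0 0 Si',
    fromBlocks N 0 0 N', ?_, ?_, ?_, ?_, ?_⟩
  · simp [fromBlocks_multiply, h1, g1]
  · simp [fromBlocks_multiply, h2, g2]
  · simp [fromBlocks_multiply, h3, g3]
  · simp [hor_fromBlocks, h4, g4]
  · simp [hor_fromBlocks, fromBlocks_multiply, h5, g5]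

theorem Adm.reindex {l : List F} {ι κ : Type} [Fintype ι] [DecidableEq ι] [Fintype κ] [DecidableEq κ]
    {A : Matrix ι ι F} (e : κ ≃ ι) (h : Adm l A) : Adm l (A.submatrix e e) := by
  obtain ⟨B, Bi, S, Si, N, h1, h2, h3, h4, h5⟩ := h
  refine ⟨B.submatrix e e, Bi.submatrix e e, S.submatrix e e, Si.submatrix e e, N.submatrix e e,
    ?_, ?_, ?_, ?_, ?_⟩ <;>
    simp [hor_submatrix, Matrix.submatrix_mul_equiv, h1, h2, h3, h4, h5]

/-- The number of negative signs. -/
def negCount {ι : Type} [Fintype ι] (σ : ι → Bool) : ℕ :=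
  (Finset.univ.filter fun i => σ i = true).card

/-- Every sign pattern of length `m` with `k` negative signs is admissible. -/
def Has (l : List F) (m k : ℕ) : Prop :=
  ∀ (ι : Type) [Fintype ι] [DecidableEq ι] (σ : ι → Bool),
    Fintype.card ι = m → negCount σ = k → Adm l (sgn σ)

theorem Has.of_one {l : List F} {ι : Type} [Fintype ι] [DecidableEq ι] (σ : ι → Bool)
    (h : Adm l (sgn σ)) : Has l (Fintype.card ι) (negCount σ) := by
  intro κ _ _ τ hc hn
  have ht : Fintype.card {i // τ i = true} = Fintype.card {i // σ i = true} := by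
    rw [Fintype.card_subtype, Fintype.card_subtype]; exact hn
  have hf : Fintype.card {i // ¬ τ i = true} = Fintype.card {i // ¬ σ i = true} := by
    rw [Fintype.card_subtype_compl, Fintype.card_subtype_compl, ht, hc]
  let e : κ ≃ ι := (Equiv.sumCompl fun i => τ i = true).symm.trans
    (((Fintype.equivOfCardEq ht).sumCongr (Fintype.equivOfCardEq hf)).trans
      (Equiv.sumCompl fun i => σ i = true))
  have he : ∀ i, σ (e i) = τ i := by
    intro i
    by_cases hi : τ i = true
    · rw [hi]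
      simp only [e, Equiv.trans_apply, Equiv.sumCongr_apply]
      rw [Equiv.sumCompl_symm_apply_of_pos (p := fun i => τ i = true) hi, Sum.map_inl, Equiv.sumCompl_apply_inl]
      exact (Fintype.equivOfCardEq ht ⟨i, hi⟩).2
    · rw [Bool.eq_false_iff.mpr hi]
      simp only [e, Equiv.trans_apply, Equiv.sumCongr_apply]
      rw [Equiv.sumCompl_symm_apply_of_neg (p := fun i => τ i = true) hi, Sum.map_inr, Equiv.sumCompl_apply_inr]
      exact Bool.eq_false_iff.mpr (Fintype.equivOfCardEq hf ⟨i, hi⟩).2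
  have := h.reindex e
  have hs : (sgn σ : Matrix ι ι F).submatrix e e = sgn τ := by
    ext i j
    simp [sgn, Matrix.diagonal_apply, e.injective.eq_iff, he]
  rwa [hs] at this

theorem Has.exists {l : List F} {m k : ℕ} (hk : k ≤ m) (h : Has l m k) :
    ∃ σ : Fin m → Bool, negCount σ = k ∧ Adm l (sgn σ : Matrix (Fin m) (Fin m) F) := by
  refine ⟨fun i => decide (i.1 < k), ?_, ?_⟩
  swap
  · refine h (Fin m) _ (Fintype.card_fin m) ?_
    simp only [negCount, decide_eq_true_eq]
    rw [Fin.card_filter_val_lt, Nat.min_eq_right hk]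
  · simp only [negCount, decide_eq_true_eq]
    rw [Fin.card_filter_val_lt, Nat.min_eq_right hk]

theorem Has.add {l : List F} {a b i j : ℕ} (hia : i ≤ a) (hjb : j ≤ b) (h : Has l a i) (h' : Has l b j) :
    Has l (a + b) (i + j) := by
  obtain ⟨σ, hσ, hA⟩ := h.exists hia
  obtain ⟨τ, hτ, hA'⟩ := h'.exists hjb
  have := Has.of_one (l := l) (Sum.elim σ τ) (by
    convert hA.block hA' using 1
    simp only [sgn, Matrix.fromBlocks_diagonal]
    congr 1
    funext x
    cases x <;> rfl)
  have hc : negCount (Sum.elim σ τ) = i + j := by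
    rw [← hσ, ← hτ]
    simp only [negCount, Finset.card_filter]
    rw [Fintype.sum_sum_type]
    rfl
  simpa [hc, Fintype.card_sum] using this

theorem Has.zero (l : List F) : Has l 0 0 := by
  intro ι _ _ σ hc _
  haveI := Fintype.card_eq_zero_iff.mp hc
  exact ⟨0, 0, 0, 0, 0, Subsingleton.elim _ _, Subsingleton.elim _ _, Subsingleton.elim _ _,
    Subsingleton.elim _ _, Subsingleton.elim _ _⟩

/-! ### Fields with at least four elements -/

theorem has_big_one {l : List F} {μ : F} (hμ : μ ≠ 0) (h0 : hor l (μ • (1 : Matrix (Fin 1) (Fin 1) F)) = 0)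
    (h1 : (hor l (μ⁻¹ • (1 : Matrix (Fin 1) (Fin 1) F))) 0 0 ≠ 0) : Has l 1 0 := by
  have := Has.of_one (l := l) (fun _ : Fin 1 => false) (ι := Fin 1) (by
    refine ⟨μ • 1, μ⁻¹ • 1, 1, 1, (hor l (μ⁻¹ • (1 : Matrix (Fin 1) (Fin 1) F)))⁻¹, ?_, one_mul 1, ?_, h0,
      Matrix.mul_nonsing_inv _ ?_⟩
    · simp [smul_smul, hμ]
    · simp [sgn, smul_smul, hμ]
    · rw [Matrix.det_fin_one]; exact Ne.isUnit h1)
  simpa [negCount] using this

/-- Fields of characteristic two with at least four elements. -/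
theorem has_char_two {μ : F} (hμ : μ ≠ 0) (h2 : μ * μ ≠ 1) : ∀ m, Has [-μ, 1] m 0
  | 0 => Has.zero _
  | m + 1 => by
    have h := (has_char_two hμ h2 m).add (Nat.zero_le _) (Nat.zero_le _)
      (has_big_one (l := [-μ, 1]) hμ (by simp [hor]) (by
        simp [hor]
        intro e
        apply h2
        have := congrArg (μ * ·) e
        simp [mul_add, hμ] at this
        linear_combination -this))
    exact h

/-- The block for two negative signs in odd characteristic. -/
theorem has_pair {μ c : F} (hc : c ≠ 0) (hc2 : c * c ≠ 1) (hμc : μ * μ * c ≠ 1) :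
    Has [μ * c, -c, -μ, 1] 2 2 := by
  have := Has.of_one (l := [μ * c, -c, -μ, 1]) (fun _ : Fin 2 => true) (ι := Fin 2) (by
    refine ⟨!![0, c; 1, 0], !![0, 1; c⁻¹, 0], !![1, 0; 0, -1], !![1, 0; 0, -1],
      (hor [μ * c, -c, -μ, 1] !![0, 1; c⁻¹, 0])⁻¹, ?_, ?_, ?_, ?_, Matrix.mul_nonsing_inv _ ?_⟩
    · ext i j; fin_cases i <;> fin_cases j <;> simp [hc]
    · ext i j; fin_cases i <;> fin_cases j <;> simp
    · ext i j; fin_cases i <;> fin_cases j <;> simp [sgn, hc]
    · ext i j; fin_cases i <;> fin_cases j <;> simp [hor, Matrix.one_fin_two] <;> ring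
    · refine Ne.isUnit fun e => ?_
      simp [hor, Matrix.one_fin_two, Matrix.det_fin_two] at e
      field_simp at e
      have : (c * c - 1) * (c * c - 1) * (μ * μ * c - 1) = 0 := by linear_combination e
      simp [mul_eq_zero, sub_eq_zero, hc2, hμc] at this)
  simpa [negCount] using this

/-- Fields of odd order at least five: `t` triples with two negative signs. -/
theorem has_odd {μ c : F} (hμ : μ ≠ 0) (h2 : μ * μ ≠ 1) (hc : c ≠ 0) (hc2 : c * c ≠ 1) (hcμ : μ * μ ≠ c)
    (hμc : μ * μ * c ≠ 1) (t : ℕ) : ∀ u, Has [μ * c, -c, -μ, 1] (3 * t + u) (2 * t) := by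
  have one : Has [μ * c, -c, -μ, 1] 1 0 := has_big_one hμ
    (by ext i j; fin_cases i; fin_cases j; simp [hor]; ring)
    (by
      simp [hor]
      intro e
      field_simp at e
      have : (μ * μ * c - 1) * (μ * μ - 1) = 0 := by linear_combination e
      simp [mul_eq_zero, sub_eq_zero, h2, hμc] at this)
  have three : Has [μ * c, -c, -μ, 1] 3 2 := one.add (Nat.zero_le _) le_rfl (has_pair hc hc2 hμc)
  have base : ∀ s, Has [μ * c, -c, -μ, 1] (3 * s) (2 * s) := fun s => by
    induction s with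
    | zero => exact Has.zero _
    | succ s ih =>
      rw [show 3 * (s + 1) = 3 * s + 3 by ring, show 2 * (s + 1) = 2 * s + 2 by ring]
      exact ih.add (by omega) (by omega) three
  intro u
  induction u with
  | zero => exact base t
  | succ u ih => exact ih.add (by omega) (Nat.zero_le _) one

/-! ### Fields with two and three elements -/

theorem has_cast {n : ℕ} {R : Type*} [CommRing R] (φ : R →+* F) {l : List R} {σ : Fin n → Bool}
    {B Bi S Si N : Matrix (Fin n) (Fin n) R} (h1 : B * Bi = 1) (h2 : S * Si = 1)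
    (h3 : B * S * Bi * Si = Matrix.diagonal fun i => if σ i then -1 else 1)
    (h4 : hor l B = 0) (h5 : hor l Bi * N = 1) : Has (l.map φ) n (negCount σ) := by
  have := Has.of_one (l := l.map φ) σ (by
    refine ⟨B.map φ, Bi.map φ, S.map φ, Si.map φ, N.map φ, ?_, ?_, ?_, ?_, ?_⟩
    · rw [← Matrix.map_mul, h1]; simp
    · rw [← Matrix.map_mul, h2]; simp
    · rw [← Matrix.map_mul, ← Matrix.map_mul, ← Matrix.map_mul, h3, sgn, Matrix.diagonal_map (map_zero φ)]
      congr 1; funext i; split <;> simp_all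
    · rw [hor_map, h4]; simp
    · rw [hor_map, ← Matrix.map_mul, h5]; simp)
  simpa using this

/-- The polynomial used over the field of two elements. -/
def l2 : List (ZMod 2) := [1, 0, 0, 1, 1, 1, 0, 1, 1, 1, 1, 0, 1]

theorem has_two (φ : ZMod 2 →+* F) : ∀ m, 3 ≤ m → Has (l2.map φ) m 0
  | 3, _ => has_cast φ (l := l2) (σ := fun _ => false) (B := !![0, 0, 1; 1, 0, 1; 0, 1, 0])
      (Bi := !![1, 1, 0; 0, 0, 1; 1, 0, 0]) (S := 1) (Si := 1) (N := 1)
      (by decide +kernel) (by decide +kernel) (by decide +kernel) (by decide +kernel) (by decide +kernel)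
  | 4, _ => has_cast φ (l := l2) (σ := fun _ => false)
      (B := !![0, 0, 0, 1; 1, 0, 0, 1; 0, 1, 0, 0; 0, 0, 1, 0])
      (Bi := !![1, 1, 0, 0; 0, 0, 1, 0; 0, 0, 0, 1; 1, 0, 0, 0]) (S := 1) (Si := 1)
      (N := !![1, 0, 1, 0; 0, 1, 1, 1; 1, 0, 1, 1; 0, 1, 0, 1])
      (by decide +kernel) (by decide +kernel) (by decide +kernel) (by decide +kernel) (by decide +kernel)
  | 5, _ => has_cast φ (l := l2) (σ := fun _ => false)
      (B := !![0, 0, 0, 0, 1; 1, 0, 0, 0, 0; 0, 1, 0, 0, 1; 0, 0, 1, 0, 0; 0, 0, 0, 1, 0])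
      (Bi := !![0, 1, 0, 0, 0; 1, 0, 1, 0, 0; 0, 0, 0, 1, 0; 0, 0, 0, 0, 1; 1, 0, 0, 0, 0]) (S := 1) (Si := 1)
      (N := !![0, 1, 1, 0, 1; 0, 0, 1, 1, 0; 0, 1, 1, 1, 0; 1, 0, 1, 1, 1; 1, 1, 0, 1, 1])
      (by decide +kernel) (by decide +kernel) (by decide +kernel) (by decide +kernel) (by decide +kernel)
  | m + 6, _ => (has_two φ (m + 3) (by omega)).add (Nat.zero_le _) (Nat.zero_le _) (has_two φ 3 le_rfl)

/-- The polynomial used over the field of three elements. -/
def l3 : List (ZMod 3) := [2, 0, 0, 0, 2, 0, 2, 1, 0, 1]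

theorem has_three_ones (φ : ZMod 3 →+* F) : ∀ u, u ≠ 1 → Has (l3.map φ) u 0
  | 0, _ => Has.zero _
  | 1, h => absurd rfl h
  | 2, _ => has_cast φ (l := l3) (σ := fun _ => false) (B := !![0, 1; 1, 1]) (Bi := !![2, 1; 1, 0])
      (S := 1) (Si := 1) (N := !![2, 2; 2, 1])
      (by decide +kernel) (by decide +kernel) (by decide +kernel) (by decide +kernel) (by decide +kernel)
  | 3, _ => has_cast φ (l := l3) (σ := fun _ => false) (B := !![0, 2, 0; 1, 0, 1; 1, 1, 2])
      (Bi := !![2, 2, 2; 2, 0, 0; 1, 2, 1]) (S := 1) (Si := 1) (N := 1)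
      (by decide +kernel) (by decide +kernel) (by decide +kernel) (by decide +kernel) (by decide +kernel)
  | u + 4, _ => (has_three_ones φ (u + 2) (by omega)).add (Nat.zero_le _) (Nat.zero_le _)
      (has_three_ones φ 2 (by omega))

theorem has_three (φ : ZMod 3 →+* F) {t u : ℕ} (h : t ≠ 0 ∨ u ≠ 1) : Has (l3.map φ) (3 * t + u) (2 * t) := by
  have three : Has (l3.map φ) 3 2 := has_cast φ (l := l3) (σ := ![false, true, true])
    (B := !![2, 0, 2; 2, 1, 2; 0, 1, 2]) (Bi := !![0, 2, 1; 2, 1, 0; 2, 1, 2])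
    (S := !![1, 0, 0; 0, 2, 2; 0, 0, 1]) (Si := !![1, 0, 0; 0, 2, 2; 0, 0, 1]) (N := 1)
    (by decide +kernel) (by decide +kernel) (by decide +kernel) (by decide +kernel) (by decide +kernel)
  have four : Has (l3.map φ) 4 2 := has_cast φ (l := l3) (σ := ![false, false, true, true])
    (B := !![2, 1, 0, 1; 1, 1, 1, 2; 2, 1, 2, 1; 0, 1, 0, 1])
    (Bi := !![2, 0, 0, 1; 0, 2, 2, 0; 1, 0, 2, 0; 0, 1, 1, 1])
    (S := !![2, 0, 0, 0; 0, 2, 0, 1; 0, 1, 2, 2; 0, 0, 0, 1])
    (Si := !![2, 0, 0, 0; 0, 2, 0, 1; 0, 2, 2, 0; 0, 0, 0, 1])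
    (N := !![0, 0, 0, 2; 0, 0, 1, 0; 2, 0, 0, 0; 0, 2, 2, 1])
    (by decide +kernel) (by decide +kernel) (by decide +kernel) (by decide +kernel) (by decide +kernel)
  have base : ∀ s, Has (l3.map φ) (3 * s) (2 * s) := fun s => by
    induction s with
    | zero => exact Has.zero _
    | succ s ih =>
      rw [show 3 * (s + 1) = 3 * s + 3 by ring, show 2 * (s + 1) = 2 * s + 2 by ring]
      exact ih.add (by omega) (by omega) three
  by_cases hu : u = 1
  · obtain ⟨s, rfl⟩ := Nat.exists_eq_succ_of_ne_zero (h.resolve_right (not_not_intro hu))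
    subst hu
    rw [show 3 * (s + 1) + 1 = 3 * s + 4 by ring, show 2 * (s + 1) = 2 * s + 2 by ring]
    exact (base s).add (by omega) (by omega) four
  · exact (base t).add (by omega) (Nat.zero_le _) (has_three_ones φ u hu)

end Cfsg.Lib.SympComm
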