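import Mathlib

/-!
An isometry `g` of a nondegenerate alternating form has a maximal isotropic subspace `L` stable
under `g + g⁻¹` such that the part of `L` that `g` keeps inside `L` consists of eigenvectors for `1`
and `-1`.
-/

set_option autoImplicit false
set_option linter.unusedSectionVars false

open Polynomial Module

namespace Cfsg.Lib.SympComm

universe u v

/-- An isometry of a nondegenerate alternating form. -/
structure SSp (F : Type u) (V : Type v) [Field F] [AddCommGroup V] [Module F V] where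
  ω : LinearMap.BilinForm F V
  alt : ω.IsAlt
  nd : ω.Nondegenerate
  g : V ≃ₗ[F] V
  pres : ∀ x y, ω (g x) (g y) = ω x y

namespace SSp

variable {F : Type u} {V : Type v} [Field F] [AddCommGroup V] [Module F V] [FiniteDimensional F V]
  (P : SSp F V)

/-- The isometry as an endomorphism. -/
def G : Module.End F V := P.g.toLinearMap

/-- The inverse isometry. -/
def Gi : Module.End F V := P.g.symm.toLinearMap

/-- The self-adjoint map `g + g⁻¹`. -/
def T : Module.End F V := P.G + P.Gi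

/-- The map `g - e`. -/
def N (e : F) : Module.End F V := P.G - e • 1

theorem G_Gi : P.G * P.Gi = 1 := LinearMap.ext fun x => P.g.apply_symm_apply x

theorem Gi_G : P.Gi * P.G = 1 := LinearMap.ext fun x => P.g.symm_apply_apply x

@[simp] theorem G_Gi_apply (x : V) : P.G (P.Gi x) = x := P.g.apply_symm_apply x

@[simp] theorem Gi_G_apply (x : V) : P.Gi (P.G x) = x := P.g.symm_apply_apply x

theorem skew (x y : V) : P.ω x y = -P.ω y x := (P.alt.neg_eq y x).symm

theorem zero_symm {x y : V} (h : P.ω x y = 0) : P.ω y x = 0 := by rw [P.skew, h, neg_zero]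

theorem adjG (x y : V) : P.ω (P.G x) y = P.ω x (P.Gi y) := by
  conv_lhs => rw [← P.G_Gi_apply y]
  exact P.pres _ _

theorem presG (x y : V) : P.ω (P.G x) (P.G y) = P.ω x y := P.pres x y

theorem finrank_mapG (U : Submodule F V) : finrank F (U.map P.G) = finrank F U :=
  LinearEquiv.finrank_map_eq P.g U

theorem adjGi (x y : V) : P.ω (P.Gi x) y = P.ω x (P.G y) := by
  conv_rhs => rw [← P.G_Gi_apply x]
  exact (P.pres _ _).symm

theorem adjT (x y : V) : P.ω (P.T x) y = P.ω x (P.T y) := by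
  simp only [T, LinearMap.add_apply, map_add, adjG, adjGi]
  exact add_comm _ _

theorem commGGi : Commute P.G P.Gi := (P.G_Gi).trans P.Gi_G.symm

theorem commGT : Commute P.G P.T := (Commute.refl P.G).add_right P.commGGi

theorem commGiT : Commute P.Gi P.T := P.commGGi.symm.add_right (Commute.refl P.Gi)

theorem commNT (e : F) : Commute (P.N e) P.T :=
  P.commGT.sub_left ((Commute.one_left _).smul_left _)

theorem commNG (e : F) : Commute (P.N e) P.G :=
  (Commute.refl P.G).sub_left ((Commute.one_left _).smul_left _)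

theorem commNGi (e : F) : Commute (P.N e) P.Gi :=
  P.commGGi.sub_left ((Commute.one_left _).smul_left _)

theorem comm_aeval {A B : Module.End F V} (h : Commute A B) (p : F[X]) : Commute A (aeval B p) := by
  induction p using Polynomial.induction_on' with
  | add p q hp hq => rw [map_add]; exact hp.add_right hq
  | monomial n a =>
    rw [aeval_monomial]
    exact (Algebra.commute_algebraMap_right a A).mul_right (h.pow_right n)

theorem comm_apply {A B : Module.End F V} (h : Commute A B) (x : V) : A (B x) = B (A x) :=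
  LinearMap.congr_fun h x

theorem adjTpow : ∀ (n : ℕ) (x y : V), P.ω ((P.T ^ n) x) y = P.ω x ((P.T ^ n) y)
  | 0, _, _ => rfl
  | n + 1, x, y => by
    conv_lhs => rw [pow_succ']
    conv_rhs => rw [pow_succ]
    rw [Module.End.mul_apply, Module.End.mul_apply, adjT, adjTpow n]

theorem adjPoly (p : F[X]) : ∀ x y : V, P.ω (aeval P.T p x) y = P.ω x (aeval P.T p y) := by
  induction p using Polynomial.induction_on' with
  | add p q hp hq => intro x y; simp only [map_add, LinearMap.add_apply, hp, hq]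
  | monomial n a =>
    intro x y
    simp only [aeval_monomial, Module.End.mul_apply, Module.algebraMap_end_apply, map_smul,
      LinearMap.smul_apply, adjTpow]

theorem Tpow_self (n : ℕ) (x : V) : P.ω ((P.T ^ n) x) x = 0 := by
  obtain ⟨k, rfl⟩ | ⟨k, rfl⟩ := n.even_or_odd
  · rw [pow_add, Module.End.mul_apply, adjTpow]
    exact P.alt _
  · rw [two_mul, pow_succ', pow_add, ← mul_assoc, Module.End.mul_apply,
      (Commute.self_pow P.T k).eq, Module.End.mul_apply, adjTpow]
    generalize (P.T ^ k) x = w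
    rw [T, LinearMap.add_apply, map_add, LinearMap.add_apply, adjGi, P.skew w (P.G w), add_neg_cancel]

theorem poly_self (p : F[X]) : ∀ x : V, P.ω (aeval P.T p x) x = 0 := by
  induction p using Polynomial.induction_on' with
  | add p q hp hq => intro x; simp only [map_add, LinearMap.add_apply, hp, hq, add_zero]
  | monomial n a =>
    intro x
    simp only [aeval_monomial, Module.End.mul_apply, Module.algebraMap_end_apply, map_smul,
      LinearMap.smul_apply, Tpow_self, smul_zero]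

/-- The cyclic subspace. -/
noncomputable def cyc (A : Module.End F V) (v : V) : Submodule F V :=
  LinearMap.range ((LinearMap.applyₗ v).comp (aeval A : F[X] →ₐ[F] Module.End F V).toLinearMap)

theorem mem_cyc {A : Module.End F V} {v x : V} : x ∈ cyc A v ↔ ∃ p : F[X], aeval A p v = x :=
  Iff.rfl

theorem self_mem_cyc (A : Module.End F V) (v : V) : v ∈ cyc A v := ⟨1, by simp⟩

theorem cyc_stable (A : Module.End F V) (v : V) : ∀ x ∈ cyc A v, A x ∈ cyc A v := by
  intro x hx
  obtain ⟨p, rfl⟩ := mem_cyc.mp hx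
  exact mem_cyc.mpr ⟨Polynomial.X * p, by simp⟩

theorem poly_mem {A : Module.End F V} {U : Submodule F V} (hU : ∀ x ∈ U, A x ∈ U) (p : F[X]) :
    ∀ x ∈ U, aeval A p x ∈ U := by
  induction p using Polynomial.induction_on' with
  | add p q hp hq =>
    intro x hx
    rw [map_add, LinearMap.add_apply]
    exact U.add_mem (hp x hx) (hq x hx)
  | monomial n a =>
    intro x hx
    rw [aeval_monomial, Module.End.mul_apply, Module.algebraMap_end_apply]
    refine U.smul_mem a ?_
    induction n with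
    | zero => exact hx
    | succ n ih => rw [pow_succ', Module.End.mul_apply]; exact hU _ ih

theorem cyc_le {A : Module.End F V} {v : V} {U : Submodule F V} (hv : v ∈ U)
    (hU : ∀ x ∈ U, A x ∈ U) : cyc A v ≤ U := by
  intro x hx
  obtain ⟨p, rfl⟩ := mem_cyc.mp hx
  exact poly_mem hU p v hv

/-- Invariance under `g`. -/
def Inv (U : Submodule F V) : Prop := ∀ x ∈ U, P.G x ∈ U

/-- Nondegeneracy of the restricted form. -/
def Nd (U : Submodule F V) : Prop := ∀ x ∈ U, (∀ y ∈ U, P.ω x y = 0) → x = 0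

/-- Total isotropy. -/
def Iso (U : Submodule F V) : Prop := ∀ x ∈ U, ∀ y ∈ U, P.ω x y = 0

/-- The orthogonal subspace. -/
def perp (U : Submodule F V) : Submodule F V := P.ω.orthogonal U

theorem mem_perp {U : Submodule F V} {x : V} : x ∈ P.perp U ↔ ∀ y ∈ U, P.ω y x = 0 := Iff.rfl

variable {P}

theorem Inv.gi {U : Submodule F V} (hU : P.Inv U) : ∀ x ∈ U, P.Gi x ∈ U := by
  intro x hx
  have hle : U.map P.g.toLinearMap ≤ U := by rintro _ ⟨a, ha, rfl⟩; exact hU a ha
  have he := Submodule.eq_of_le_of_finrank_eq hle (LinearEquiv.finrank_map_eq P.g U)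
  rw [← he] at hx
  obtain ⟨a, ha, rfl⟩ := hx
  rwa [Gi, LinearEquiv.coe_toLinearMap, LinearEquiv.coe_toLinearMap, LinearEquiv.symm_apply_apply]

theorem Inv.t {U : Submodule F V} (hU : P.Inv U) : ∀ x ∈ U, P.T x ∈ U :=
  fun x hx => U.add_mem (hU x hx) (hU.gi x hx)

theorem Inv.n {U : Submodule F V} (hU : P.Inv U) (e : F) : ∀ x ∈ U, P.N e x ∈ U := by
  intro x hx
  simp only [N, LinearMap.sub_apply, LinearMap.smul_apply, Module.End.one_apply]
  exact U.sub_mem (hU x hx) (U.smul_mem e hx)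

theorem Inv.inf_perp {D Q : Submodule F V} (hD : P.Inv D) (hQ : P.Inv Q) : P.Inv (Q ⊓ P.perp D) := by
  rintro x ⟨hx, hx'⟩
  exact ⟨hQ x hx, fun d hd => by rw [← P.G_Gi_apply d]; exact (P.pres _ _).trans (hx' _ (hD.gi d hd))⟩

theorem Nd.isCompl {D : Submodule F V} (hD : P.Nd D) : IsCompl D (P.perp D) := by
  refine (LinearMap.BilinForm.isCompl_orthogonal_iff_disjoint P.alt.isRefl).2 ?_
  rw [Submodule.disjoint_def]
  exact fun x hx hx' => hD x hx fun y hy => P.zero_symm (hx' y hy)

theorem dim_perp_inf {Q L : Submodule F V} (hQ : P.Nd Q) (hL : L ≤ Q) :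
    finrank F ↥(Q ⊓ P.perp L) + finrank F L = finrank F Q := by
  have h1 : Q ⊔ P.perp L = ⊤ := by
    rw [eq_top_iff, ← hQ.isCompl.sup_eq_top]
    exact sup_le_sup_left (LinearMap.BilinForm.orthogonal_le hL) _
  have h2 := Submodule.finrank_sup_add_finrank_inf_eq Q (P.perp L)
  have h3 : finrank F (P.perp L) = finrank F V - finrank F L :=
    LinearMap.BilinForm.finrank_orthogonal P.nd L
  have := L.finrank_le
  rw [h1, finrank_top] at h2
  omega

theorem iso_half {Q L : Submodule F V} (hQ : P.Nd Q) (hL : L ≤ Q) (hi : P.Iso L) :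
    2 * finrank F L ≤ finrank F Q := by
  have h : L ≤ Q ⊓ P.perp L := fun x hx => ⟨hL hx, fun y hy => hi y hy x hx⟩
  have := Submodule.finrank_mono h
  have := dim_perp_inf hQ hL
  omega

variable (P)

/-- The minus one eigenspace inside `Q` is totally isotropic. -/
def Gen (Q : Submodule F V) : Prop :=
  ∀ x ∈ Q, ∀ y ∈ Q, P.G x = -x → P.G y = -y → P.ω x y = 0

/-- The conclusion for a stable nondegenerate subspace. -/
def Res (Q : Submodule F V) : Prop :=
  ∃ L Kp Km : Submodule F V, L ≤ Q ∧ P.Iso L ∧ Q ⊓ P.perp L ≤ L ∧ (∀ x ∈ L, P.T x ∈ L) ∧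
    Kp ≤ L ∧ Km ≤ L ∧ (∀ x ∈ Kp, P.G x = x) ∧ (∀ x ∈ Km, P.G x = -x) ∧
    (∀ x ∈ L, P.G x ∈ L → x ∈ Kp ⊔ Km) ∧
    (P.Gen Q → finrank F Kp + 3 * finrank F Km ≤ finrank F L)

variable {P}

theorem res_combine {Q D : Submodule F V} (hDQ : D ≤ Q) (hD : P.Inv D) (hDn : P.Nd D)
    (hQ : P.Inv Q) (h1 : P.Res D) (h2 : P.Res (Q ⊓ P.perp D)) : P.Res Q := by
  obtain ⟨L1, p1, m1, hL1, i1, c1, t1, hp1, hm1, gp1, gm1, k1, b1⟩ := h1
  obtain ⟨L2, p2, m2, hL2, i2, c2, t2, hp2, hm2, gp2, gm2, k2, b2⟩ := h2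
  have hQ' : P.Inv (Q ⊓ P.perp D) := hD.inf_perp hQ
  have hdis : ∀ x ∈ D, x ∈ Q ⊓ P.perp D → x = 0 := fun x hx hx' =>
    (Submodule.disjoint_def.mp hDn.isCompl.disjoint) x hx hx'.2
  have hsplit : ∀ x ∈ Q, ∃ a ∈ D, ∃ b ∈ Q ⊓ P.perp D, x = a + b := by
    intro x hx
    have : x ∈ D ⊔ P.perp D := by rw [hDn.isCompl.sup_eq_top]; trivial
    obtain ⟨a, ha, b, hb, rfl⟩ := Submodule.mem_sup.mp this
    exact ⟨a, ha, b, ⟨(Q.add_mem_iff_right (hDQ ha)).mp hx, hb⟩, rfl⟩
  have hor : ∀ a ∈ D, ∀ b ∈ Q ⊓ P.perp D, P.ω a b = 0 := fun a ha b hb => hb.2 a ha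
  refine ⟨L1 ⊔ L2, p1 ⊔ p2, m1 ⊔ m2, sup_le (hL1.trans hDQ) (hL2.trans inf_le_left), ?_, ?_, ?_,
    sup_le_sup hp1 hp2, sup_le_sup hm1 hm2, ?_, ?_, ?_, ?_⟩
  · intro x hx y hy
    obtain ⟨a, ha, b, hb, rfl⟩ := Submodule.mem_sup.mp hx
    obtain ⟨c, hc, d, hd, rfl⟩ := Submodule.mem_sup.mp hy
    simp only [map_add, LinearMap.add_apply, i1 a ha c hc, i2 b hb d hd, hor a (hL1 ha) d (hL2 hd),
      P.zero_symm (hor c (hL1 hc) b (hL2 hb)), add_zero]
  · rintro x ⟨hx, hx'⟩
    obtain ⟨a, ha, b, hb, rfl⟩ := hsplit x hx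
    refine Submodule.mem_sup.mpr ⟨a, c1 ⟨ha, fun y hy => ?_⟩, b, c2 ⟨hb, fun y hy => ?_⟩, rfl⟩
    · simpa [hor y (hL1 hy) b hb] using hx' y (Submodule.mem_sup_left hy)
    · simpa [P.zero_symm (hor a ha y (hL2 hy))] using hx' y (Submodule.mem_sup_right hy)
  · intro x hx
    obtain ⟨a, ha, b, hb, rfl⟩ := Submodule.mem_sup.mp hx
    rw [map_add]
    exact Submodule.add_mem_sup (t1 a ha) (t2 b hb)
  · intro x hx
    obtain ⟨a, ha, b, hb, rfl⟩ := Submodule.mem_sup.mp hx
    rw [map_add, gp1 a ha, gp2 b hb]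
  · intro x hx
    obtain ⟨a, ha, b, hb, rfl⟩ := Submodule.mem_sup.mp hx
    rw [map_add, gm1 a ha, gm2 b hb, neg_add]
  · intro x hx hgx
    obtain ⟨a, ha, b, hb, rfl⟩ := Submodule.mem_sup.mp hx
    obtain ⟨c, hc, d, hd, e⟩ := Submodule.mem_sup.mp hgx
    rw [map_add] at e
    have e' : P.G a - c = d - P.G b := by linear_combination (norm := abel) -e
    have h0 : P.G a - c = 0 := hdis _ (D.sub_mem (hD a (hL1 ha)) (hL1 hc))
      (e' ▸ (Q ⊓ P.perp D).sub_mem (hL2 hd) (hQ' b (hL2 hb)))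
    have hga : P.G a ∈ L1 := by rwa [sub_eq_zero.mp h0]
    have hgb : P.G b ∈ L2 := by rwa [← sub_eq_zero.mp (e'.symm.trans h0)]
    rw [sup_sup_sup_comm]
    exact (Submodule.add_mem_sup (k1 a ha hga) (k2 b hb hgb))
  · intro hgen
    have g1 : P.Gen D := fun x hx y hy => hgen x (hDQ hx) y (hDQ hy)
    have g2 : P.Gen (Q ⊓ P.perp D) := fun x hx y hy => hgen x hx.1 y hy.1
    have := b1 g1
    have := b2 g2
    have e := Submodule.finrank_sup_add_finrank_inf_eq L1 L2
    have : L1 ⊓ L2 = ⊥ := (Submodule.eq_bot_iff _).2 fun x hx => hdis x (hL1 hx.1) (hL2 hx.2)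
    rw [this, finrank_bot] at e
    have := Submodule.finrank_add_le_finrank_add_finrank p1 p2
    have := Submodule.finrank_add_le_finrank_add_finrank m1 m2
    omega

/-- An isotropic `T`-stable subspace generating `D` under `g` settles `D`. -/
theorem res_of_generated {D L : Submodule F V} (hDn : P.Nd D) (hL : L ≤ D) (hi : P.Iso L)
    (ht : ∀ x ∈ L, P.T x ∈ L) (hgen : D ≤ L ⊔ L.map P.G) :
    P.Res D ∧ L ⊓ L.map P.G = ⊥ := by
  have h1 := iso_half hDn hL hi
  have h2 := Submodule.finrank_sup_add_finrank_inf_eq L (L.map P.G)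
  have h3 : finrank F (L.map P.G) = finrank F L := P.finrank_mapG L
  have h4 := Submodule.finrank_mono hgen
  have h5 : L ⊓ L.map P.G = ⊥ := Submodule.finrank_eq_zero.mp (by omega)
  refine ⟨⟨L, ⊥, ⊥, hL, hi, ?_, ht, bot_le, bot_le, ?_, ?_, ?_, fun _ => ?_⟩, h5⟩
  · refine (Submodule.eq_of_le_of_finrank_le (show L ≤ D ⊓ P.perp L from
      fun x hx => ⟨hL hx, fun y hy => hi y hy x hx⟩) ?_).ge
    have := dim_perp_inf hDn hL
    omega
  · rintro x hx; simp [(Submodule.mem_bot F).mp hx]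
  · rintro x hx; simp [(Submodule.mem_bot F).mp hx]
  · intro x hx hgx
    have : P.G x ∈ L ⊓ L.map P.G := Submodule.mem_inf.mpr ⟨hgx, Submodule.mem_map_of_mem hx⟩
    rw [h5, Submodule.mem_bot] at this
    have hx0 : x = 0 := by rw [← P.Gi_G_apply x, this, map_zero]
    simp [hx0]
  · simp

theorem G_G (x : V) : P.G (P.G x) = P.G (P.T x) - x := by
  simp [T]

theorem restrict_pow_coe {Q : Submodule F V} {A : Module.End F V} (h : ∀ x ∈ Q, A x ∈ Q) :
    ∀ (i : ℕ) (x : Q), ((((A.restrict h : Module.End F Q) ^ i) x : Q) : V) = (A ^ i) x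
  | 0, _ => rfl
  | i + 1, x => by
    rw [pow_succ', pow_succ', Module.End.mul_apply, Module.End.mul_apply]

    exact congrArg A (restrict_pow_coe h i x)

theorem cycG_eq (v : V) : cyc P.G v = cyc P.T v ⊔ (cyc P.T v).map P.G := by
  have hinv : P.Inv (cyc P.T v ⊔ (cyc P.T v).map P.G) := by
    intro x hx
    obtain ⟨a, ha, _, ⟨b, hb, rfl⟩, rfl⟩ := Submodule.mem_sup.mp hx
    rw [map_add, G_G]
    refine Submodule.add_mem _ (Submodule.mem_sup_right ⟨a, ha, rfl⟩) (Submodule.sub_mem _ ?_ ?_)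
    · exact Submodule.mem_sup_right ⟨_, cyc_stable _ _ b hb, rfl⟩
    · exact Submodule.mem_sup_left hb
  refine le_antisymm (cyc_le (Submodule.mem_sup_left (self_mem_cyc _ _)) hinv) (sup_le ?_ ?_)
  · exact cyc_le (self_mem_cyc _ _) (Inv.t (cyc_stable _ _))
  · rintro _ ⟨a, ha, rfl⟩
    exact cyc_stable P.G v a (cyc_le (self_mem_cyc _ _) (Inv.t (cyc_stable _ _)) ha)

theorem cycT_iso (v : V) : P.Iso (cyc P.T v) := by
  intro x hx y hy
  obtain ⟨p, rfl⟩ := mem_cyc.mp hx
  obtain ⟨q, rfl⟩ := mem_cyc.mp hy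
  rw [P.adjPoly, ← Module.End.mul_apply, ← map_mul, ← P.adjPoly]
  exact P.poly_self _ v

theorem res_cyclic {v : V} (hD : P.Nd (cyc P.G v)) : P.Res (cyc P.G v) :=
  (res_of_generated hD (L := cyc P.T v) (cycG_eq (P := P) v ▸ le_sup_left) (cycT_iso v) (cyc_stable _ _)
    (cycG_eq v).le).1

/-- A peel of `Q`. -/
def Peel (P : SSp F V) (Q : Submodule F V) : Prop :=
  ∃ D, D ≤ Q ∧ D ≠ ⊥ ∧ P.Inv D ∧ P.Nd D ∧ P.Res D

theorem peel_cyclic {Q : Submodule F V} (hQ : P.Inv Q) {v : V} (hv : v ∈ Q) (hv0 : v ≠ 0)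
    (hD : P.Nd (cyc P.G v)) : P.Peel Q :=
  ⟨cyc P.G v, cyc_le hv hQ, fun h => hv0 ((Submodule.mem_bot F).mp (h ▸ self_mem_cyc P.G v)),
    cyc_stable _ _, hD, res_cyclic hD⟩

theorem peel_no_eigen {Q : Submodule F V} (hQ : P.Inv Q) (hQn : P.Nd Q) (hQ0 : Q ≠ ⊥)
    (h1 : ∀ x ∈ Q, P.G x = x → x = 0) (h2 : ∀ x ∈ Q, P.G x = -x → x = 0) : P.Peel Q := by
  classical
  by_contra hno
  have hnd : ∀ u ∈ Q, u ≠ 0 → ¬ P.Nd (cyc P.G u) := fun u hu hu0 h => hno (peel_cyclic hQ hu hu0 h)
  let TQ : Module.End F Q := P.T.restrict hQ.t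
  have haev : ∀ (q : F[X]) (x : Q), ((aeval TQ q x : Q) : V) = aeval P.T q x := by
    intro q
    induction q using Polynomial.induction_on' with
    | add p q hp hq => intro x; simp [hp, hq]
    | monomial n a =>
      intro x
      simp only [aeval_monomial, Module.End.mul_apply, Module.algebraMap_end_apply, Submodule.coe_smul,
        TQ, restrict_pow_coe]
  have hint : IsIntegral F TQ := Algebra.IsIntegral.isIntegral TQ
  have : Nontrivial Q := Submodule.nontrivial_iff_ne_bot.mpr hQ0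
  obtain ⟨π, hπ, hπp⟩ := WfDvdMonoid.exists_irreducible_factor (minpoly.not_isUnit F TQ)
    (minpoly.ne_zero hint)
  obtain ⟨k, ρ, hρ, hk⟩ := WfDvdMonoid.max_power_factor (minpoly.ne_zero hint) hπ
  obtain ⟨j, rfl⟩ : ∃ j, k = j + 1 :=
    Nat.exists_eq_succ_of_ne_zero fun hk0 => hρ (by simpa [hk, hk0] using hπp)
  have hann : ∀ x ∈ Q, aeval P.T (π ^ (j + 1) * ρ) x = 0 := by
    intro x hx
    have h := haev (minpoly F TQ) ⟨x, hx⟩
    rw [minpoly.aeval, hk] at h
    simpa using h.symm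
  let h : F[X] := π ^ j * ρ * ρ
  -- some vector is not killed
  obtain ⟨x, hx⟩ : ∃ x : Q, aeval P.T h x ≠ 0 := by
    by_contra hc
    simp only [not_exists, not_not] at hc
    have hd : minpoly F TQ ∣ h := minpoly.dvd F TQ (LinearMap.ext fun x => Subtype.ext (by
      rw [haev, hc]; rfl))
    rw [hk, show h = π ^ j * (ρ * ρ) from mul_assoc _ _ _, pow_succ, mul_assoc] at hd
    have h' : π * ρ ∣ ρ * ρ := (mul_dvd_mul_iff_left (pow_ne_zero j hπ.ne_zero)).mp hd
    have hπρ : π ∣ ρ * ρ := (dvd_mul_right π ρ).trans h'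
    exact hρ ((hπ.prime.dvd_mul.mp hπρ).elim id id)
  -- the twisted form is alternating
  have key : ∀ v ∈ Q, P.ω (P.G (aeval P.T h v)) v = 0 := by
    intro v hv
    have huQ : aeval P.T ρ v ∈ Q := poly_mem hQ.t _ v hv
    suffices hs : P.ω (P.G (aeval P.T ρ v)) (aeval P.T (π ^ j * ρ) v) = 0 by
      rw [← P.adjPoly (π ^ j * ρ), ← comm_apply (comm_aeval P.commGT _),
        show aeval P.T (π ^ j * ρ) (aeval P.T ρ v) = aeval P.T h v by
          rw [← Module.End.mul_apply, ← map_mul]] at hs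
      exact hs
    rw [map_mul, Module.End.mul_apply]
    by_cases hu0 : aeval P.T ρ v = 0
    · simp [hu0]
    generalize hu : aeval P.T ρ v = u at huQ hu0 ⊢
    have hku : aeval P.T (π ^ (j + 1)) u = 0 := by
      rw [← hu, ← Module.End.mul_apply, ← map_mul]; exact hann v hv
    have hd := hnd u huQ hu0
    simp only [Nd, not_forall, exists_prop] at hd
    obtain ⟨z, hz, hzo, hz0⟩ := hd
    rw [cycG_eq] at hz hzo
    obtain ⟨a, ha, _, ⟨b, hb, rfl⟩, rfl⟩ := Submodule.mem_sup.mp hz
    have hiso := cycT_iso (P := P) u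
    -- membership in the radical
    have csymm : ∀ c ∈ cyc P.T u, ∀ d ∈ cyc P.T u, P.ω (P.G c) d = P.ω (P.G d) c := by
      intro c hc d hd
      have h0 := hiso _ (cyc_stable _ _ c hc) d hd
      rw [T, LinearMap.add_apply, map_add, LinearMap.add_apply, P.adjGi, P.skew c] at h0
      exact add_neg_eq_zero.mp h0
    have hbR : ∀ d ∈ cyc P.T u, P.ω (P.G d) b = 0 := fun d hd => by
      have e := hzo d (Submodule.mem_sup_left hd)
      rw [map_add, LinearMap.add_apply, hiso a ha d hd, zero_add] at e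
      rw [csymm d hd b hb, e]
    have haR : ∀ d ∈ cyc P.T u, P.ω (P.G d) a = 0 := fun d hd => by
      have e := hzo (P.G d) (Submodule.mem_sup_right ⟨d, hd, rfl⟩)
      rw [map_add, LinearMap.add_apply, P.presG, hiso b hb d hd, add_zero] at e
      exact P.zero_symm e
    obtain ⟨r, hr, hrR, hr0⟩ : ∃ r ∈ cyc P.T u, (∀ d ∈ cyc P.T u, P.ω (P.G d) r = 0) ∧ r ≠ 0 := by
      by_cases ha0 : a = 0
      · refine ⟨b, hb, hbR, fun hb0 => hz0 ?_⟩
        rw [ha0, hb0, map_zero, add_zero]
      · exact ⟨a, ha, haR, ha0⟩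
    have Rstable : ∀ (q : F[X]) (c : V), (∀ d ∈ cyc P.T u, P.ω (P.G d) c = 0) →
        ∀ d ∈ cyc P.T u, P.ω (P.G d) (aeval P.T q c) = 0 := fun q c hc d hd => by
      rw [← P.adjPoly, ← comm_apply (comm_aeval P.commGT _)]
      exact hc _ (poly_mem (cyc_stable _ _) q d hd)
    obtain ⟨p, rfl⟩ := mem_cyc.mp hr
    have hp0 : p ≠ 0 := fun h => hr0 (by simp [h])
    obtain ⟨i, p', hp', rfl⟩ := WfDvdMonoid.max_power_factor hp0 hπ
    have hij : i ≤ j := by
      by_contra hlt
      refine hr0 ?_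
      obtain ⟨l, rfl⟩ : ∃ l, i = l + (j + 1) := ⟨i - (j + 1), by omega⟩
      rw [pow_add, mul_comm (π ^ l), mul_assoc, mul_comm, map_mul, Module.End.mul_apply, hku, map_zero]
    obtain ⟨α, β, hαβ⟩ : IsCoprime p' (π ^ (j + 1)) :=
      ((hπ.coprime_iff_not_dvd).2 hp').symm.pow_right
    have e : π ^ j = α * π ^ (j - i) * (π ^ i * p') + π ^ j * β * π ^ (j + 1) := by
      have hi : π ^ (j - i) * π ^ i = π ^ j := by rw [← pow_add, Nat.sub_add_cancel hij]
      linear_combination (-(π ^ j)) * hαβ - α * p' * hi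
    rw [e, map_add, LinearMap.add_apply, map_mul _ (π ^ j * β), Module.End.mul_apply, hku, map_zero,
      add_zero, map_mul, Module.End.mul_apply]
    exact Rstable _ _ hrR u (self_mem_cyc _ _)
  -- polarisation
  generalize hH : aeval P.T h = H at key hx
  have hHQ : ∀ v ∈ Q, H v ∈ Q := hH ▸ poly_mem hQ.t h
  have hz : P.G (H x) - P.Gi (H x) = 0 := by
    refine hQn _ (Q.sub_mem (hQ _ (hHQ _ x.2)) (hQ.gi _ (hHQ _ x.2))) fun w hw => ?_
    have e := key ((x : V) + w) (Q.add_mem x.2 hw)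
    simp only [map_add, LinearMap.add_apply, key _ x.2, key _ hw, zero_add, add_zero] at e
    have hHa : ∀ a b : V, P.ω (H a) b = P.ω a (H b) := hH ▸ P.adjPoly h
    have hHG : P.Gi (H x) = H (P.Gi x) := hH ▸ comm_apply (comm_aeval P.commGiT h) x
    rw [P.adjG (H w), hHa w, ← hHG, P.skew w] at e
    rw [map_sub, LinearMap.sub_apply]
    linear_combination e
  have hG2 : P.G (P.G (H x)) = H x := by
    have := congrArg P.G (sub_eq_zero.mp hz)
    rwa [G_Gi_apply] at this
  have hd : P.G (H x) - H x = 0 := by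
    refine h2 _ (Q.sub_mem (hQ _ (hHQ _ x.2)) (hHQ _ x.2)) ?_
    rw [map_sub, hG2, neg_sub]
  exact hx (h1 _ (hHQ _ x.2) (sub_eq_zero.mp hd))

section nilpotent

variable {e : F}

theorem adjN (he : e * e = 1) (x y : V) :
    P.ω (P.N e x) y = -e * P.ω x (P.Gi (P.N e y)) := by
  simp only [N, LinearMap.sub_apply, LinearMap.smul_apply, Module.End.one_apply, map_sub, map_smul,
    LinearMap.smul_apply, Gi_G_apply, adjG, smul_eq_mul]
  linear_combination (-P.ω x (P.Gi y)) * he

theorem G_eq_N (e : F) (x : V) : P.G x = P.N e x + e • x := by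
  simp [N]

theorem step_span {v : V} : cyc P.G v ≤ Submodule.span F {v} ⊔ (cyc P.G v).map (P.N e) := by
  refine cyc_le (Submodule.mem_sup_left (Submodule.mem_span_singleton_self v)) fun x hx => ?_
  obtain ⟨a, ha, _, ⟨b, hb, rfl⟩, rfl⟩ := Submodule.mem_sup.mp hx
  obtain ⟨c, rfl⟩ := Submodule.mem_span_singleton.mp ha
  rw [map_add, map_smul, ← comm_apply (P.commNG e), G_eq_N e v, smul_add, ← map_smul]
  refine Submodule.add_mem _ (Submodule.add_mem _ (Submodule.mem_sup_right ⟨_, ?_, rfl⟩)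
    (Submodule.mem_sup_left ?_)) (Submodule.mem_sup_right ⟨_, cyc_stable _ _ b hb, rfl⟩)
  · exact Submodule.smul_mem _ _ (self_mem_cyc _ _)
  · exact Submodule.smul_mem _ _ (Submodule.smul_mem _ _ (Submodule.mem_span_singleton_self v))

theorem N_pow_zero {n : ℕ} {D : Submodule F V} (hD : ∀ x ∈ D, (P.N e ^ n) x = 0) {x : V}
    (hx : x ∈ D) {m : ℕ} (hm : n ≤ m) : (P.N e ^ m) x = 0 := by
  obtain ⟨l, rfl⟩ : ∃ l, m = l + n := ⟨m - n, by omega⟩
  rw [pow_add, Module.End.mul_apply, hD x hx, map_zero]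

/-- Nondegeneracy from the socle, for two generators. -/
theorem nd_of_socle (he : e * e = 1) {n : ℕ} {D : Submodule F V} (hD : P.Inv D) {v y : V}
    (hDn : ∀ x ∈ D, (P.N e ^ (n + 1)) x = 0)
    (hstep : D ≤ Submodule.span F {v} ⊔ Submodule.span F {y} ⊔ D.map (P.N e))
    (hsoc : ∀ a b : F, (∀ d ∈ D, P.ω (a • (P.N e ^ n) v + b • (P.N e ^ n) y) d = 0) →
      a • v + b • y = 0) : P.Nd D := by
  intro x hxD hx
  have main : ∀ j, j ≤ n + 1 → ∀ x : V, (∀ d ∈ D, P.ω x d = 0) → x ∈ D →
      x ∈ D.map (P.N e ^ j) := by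
    intro j
    induction j with
    | zero => exact fun _ x _ hx => ⟨x, hx, rfl⟩
    | succ j ih =>
      intro hj x hx hxD
      obtain ⟨z, hz, rfl⟩ := ih (by omega) x hx hxD
      obtain ⟨c, hc, _, ⟨z', hz', rfl⟩, rfl⟩ := Submodule.mem_sup.mp (hstep hz)
      obtain ⟨_, ha, _, hb, rfl⟩ := Submodule.mem_sup.mp hc
      obtain ⟨a, rfl⟩ := Submodule.mem_span_singleton.mp ha
      obtain ⟨b, rfl⟩ := Submodule.mem_span_singleton.mp hb
      have hR : ∀ i : ℕ, ∀ w : V, (∀ d ∈ D, P.ω w d = 0) → ∀ d ∈ D, P.ω ((P.N e ^ i) w) d = 0 := by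
        intro i
        induction i with
        | zero => exact fun w hw => hw
        | succ i ih' =>
          intro w hw d hd
          rw [pow_succ', Module.End.mul_apply, adjN he, ih' w hw _ (hD.gi _ (hD.n e d hd)), mul_zero]
      have h0 : ∀ d ∈ D, P.ω (a • (P.N e ^ n) v + b • (P.N e ^ n) y) d = 0 := by
        intro d hd
        have := hR (n - j) _ hx d hd
        have e0 : (P.N e ^ (n - j)) ((P.N e ^ j) (a • v + b • y + P.N e z')) =
            a • (P.N e ^ n) v + b • (P.N e ^ n) y := by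
          rw [← Module.End.mul_apply, ← pow_add, Nat.sub_add_cancel (by omega : j ≤ n)]
          simp only [map_add, map_smul]
          rw [← Module.End.mul_apply, ← pow_succ, hDn z' hz', add_zero]
        rw [e0] at this
        exact this
      rw [hsoc a b h0, zero_add]
      exact ⟨z', hz', by rw [pow_succ, Module.End.mul_apply]⟩
  obtain ⟨z, hz, rfl⟩ := main (n + 1) le_rfl x hx hxD
  exact hDn z hz

theorem peel_nilpotent (he : e * e = 1) (he' : e ≠ 1 → e = -1) {Q : Submodule F V} (hQ : P.Inv Q)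
    (hQn : P.Nd Q) {n : ℕ} (hnil : ∀ x ∈ Q, (P.N e ^ (n + 1)) x = 0) {v : V} (hv : v ∈ Q)
    (hs0 : (P.N e ^ n) v ≠ 0) : P.Peel Q := by
  classical
  by_contra hno
  have hnd : ∀ u ∈ Q, u ≠ 0 → ¬ P.Nd (cyc P.G u) := fun u hu hu0 h => hno (peel_cyclic hQ hu hu0 h)
  have hNQ : ∀ i : ℕ, ∀ x ∈ Q, (P.N e ^ i) x ∈ Q := by
    intro i
    induction i with
    | zero => exact fun x hx => hx
    | succ i ih => exact fun x hx => by rw [pow_succ', Module.End.mul_apply]; exact hQ.n e _ (ih x hx)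
  have adjNpow : ∀ (i : ℕ) (x y : V),
      P.ω ((P.N e ^ i) x) y = (-e) ^ i * P.ω x ((P.Gi ^ i * P.N e ^ i) y) := by
    intro i
    induction i with
    | zero => intro x y; simp
    | succ i ih =>
      intro x y
      rw [pow_succ', Module.End.mul_apply, adjN he, ih, ← mul_assoc, ← pow_succ']
      congr 2
      rw [← Module.End.mul_apply, ← Module.End.mul_apply]
      congr 1
      rw [pow_succ P.Gi, mul_assoc, mul_assoc, ← mul_assoc (P.N e ^ i),
        ((P.commNGi e).pow_left i).eq, mul_assoc P.Gi, ← pow_succ, pow_succ', mul_assoc]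
  have hgs : ∀ u ∈ Q, P.G ((P.N e ^ n) u) = e • (P.N e ^ n) u := fun u hu => by
    rw [G_eq_N e, ← Module.End.mul_apply, ← pow_succ', hnil u hu, zero_add]
  have hgis : ∀ u ∈ Q, P.Gi ((P.N e ^ n) u) = e • (P.N e ^ n) u := fun u hu => by
    have := congrArg P.Gi (hgs u hu)
    rw [Gi_G_apply, map_smul] at this
    conv_rhs => rw [this, smul_smul, he, one_smul]
  have hgis' : ∀ u ∈ Q, ∀ i : ℕ, (P.Gi ^ i) ((P.N e ^ n) u) = e ^ i • (P.N e ^ n) u := by
    intro u hu i
    induction i with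
    | zero => simp
    | succ i ih => rw [pow_succ', Module.End.mul_apply, ih, map_smul, hgis u hu, smul_smul, ← pow_succ]
  -- the top vectors of degenerate cyclic subspaces are self orthogonal
  have htop : ∀ u ∈ Q, u ≠ 0 → P.ω ((P.N e ^ n) u) u = 0 := by
    intro u hu hu0
    by_contra h
    refine hnd u hu hu0 (nd_of_socle he (v := u) (y := 0) (cyc_stable _ _)
      (fun x hx => hnil x (cyc_le hu hQ hx)) (step_span.trans (sup_le_sup_right le_sup_left _)) ?_)
    intro a b hab
    have := hab u (self_mem_cyc _ _)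
    simp [h] at this
    simp [this]
  have hv0 : v ≠ 0 := fun h => hs0 (by rw [h, map_zero])
  have hsv : P.ω ((P.N e ^ n) v) v = 0 := htop v hv hv0
  generalize hs : (P.N e ^ n) v = s at hs0 hsv
  have hsQ : s ∈ Q := hs ▸ hNQ n v hv
  have hgs' : P.G s = e • s := hs ▸ hgs v hv
  have hNs : P.N e s = 0 := by
    rw [← hs, ← Module.End.mul_apply, ← pow_succ', hnil v hv]
  -- data on the cyclic subspace of v
  generalize hW : cyc P.T v = W
  have hWG : cyc P.G v = W ⊔ W.map P.G := hW ▸ cycG_eq v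
  have hWQ : W ≤ Q := hW ▸ cyc_le hv hQ.t
  have hdimZ : n + 1 ≤ finrank F (cyc P.G v) := by
    have main : ∀ k, k ≤ n + 1 → k ≤ finrank F ((cyc P.G v).map (P.N e ^ (n + 1 - k))) := by
      intro k
      induction k with
      | zero => simp
      | succ k ih =>
        intro hk
        have hsucc : n + 1 - k = (n - k) + 1 := by omega
        have := ih (by omega)
        rw [hsucc] at this
        rw [Nat.succ_sub_succ]
        refine lt_of_le_of_lt this (Submodule.finrank_lt_finrank_of_lt (lt_of_le_not_ge ?_ ?_))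
        · rintro _ ⟨z, hz, rfl⟩
          exact ⟨P.N e z, Inv.n (cyc_stable _ _) e z hz, by rw [pow_succ, Module.End.mul_apply]⟩
        · intro hle
          obtain ⟨z, hz, hz'⟩ := hle ⟨v, self_mem_cyc _ _, rfl⟩
          have := congrArg (P.N e ^ k) hz'
          rw [← Module.End.mul_apply, ← pow_add, ← Module.End.mul_apply, ← pow_add,
            show k + (n - k + 1) = n + 1 by omega, show k + (n - k) = n by omega,
            hnil z (cyc_le hv hQ hz), hs] at this
          exact hs0 this.symm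
    have := main (n + 1) le_rfl
    rwa [Nat.sub_self, pow_zero, Module.End.one_eq_id, Submodule.map_id] at this
  have hSN : P.G * (P.T - (2 * e) • 1) = P.N e ^ 2 := by
    apply LinearMap.ext
    intro x
    simp only [Module.End.mul_apply, sq, N, T, LinearMap.sub_apply, LinearMap.add_apply,
      LinearMap.smul_apply, Module.End.one_apply, map_sub, map_add, map_smul, G_Gi_apply, smul_sub,
      smul_smul, he, one_smul, two_mul, add_smul]
    abel
  generalize hS : P.T - (2 * e) • 1 = S at hSN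
  have hcGS : Commute P.G S := hS ▸ P.commGT.sub_right ((Commute.one_right _).smul_right _)
  have hNS : ∀ i : ℕ, S ^ i = P.Gi ^ i * P.N e ^ (2 * i) := by
    intro i
    rw [pow_mul, ← hSN, hcGS.mul_pow, ← mul_assoc, ← P.commGGi.symm.mul_pow, P.Gi_G, one_pow,
      one_mul]
  have hTS : ∀ x, P.T x = S x + (2 * e) • x := fun x => by simp [← hS]
  have hSkill : ∀ i, n < 2 * i → (S ^ i) v = 0 := fun i hi => by
    rw [hNS, Module.End.mul_apply, N_pow_zero hnil hv hi, map_zero]
  have hspan : W ≤ Submodule.span F (Set.range fun i : Fin (n / 2 + 1) => (S ^ (i : ℕ)) v) := by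
    rw [← hW]
    refine cyc_le (Submodule.subset_span ⟨0, by simp⟩) fun x hx => ?_
    induction hx using Submodule.span_induction with
    | mem x hx =>
      obtain ⟨i, rfl⟩ := hx
      rw [hTS]
      refine Submodule.add_mem _ ?_ (Submodule.smul_mem _ _ (Submodule.subset_span ⟨i, rfl⟩))
      rw [← Module.End.mul_apply, ← pow_succ']
      by_cases hi : (i : ℕ) + 1 < n / 2 + 1
      · exact Submodule.subset_span ⟨⟨_, hi⟩, rfl⟩
      · rw [hSkill _ (by omega)]; exact zero_mem _
    | zero => simp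
    | add x y _ _ hx hy => rw [map_add]; exact add_mem hx hy
    | smul a x _ hx => rw [map_smul]; exact Submodule.smul_mem _ a hx
  have hdimW : finrank F W ≤ n / 2 + 1 :=
    (Submodule.finrank_mono hspan).trans ((finrank_range_le_card _).trans_eq (Fintype.card_fin _))
  have hsep : ∀ U : Submodule F V, U ≤ Q → s ∉ U →
      ∃ y ∈ Q, (∀ w ∈ U, P.ω w y = 0) ∧ P.ω s y ≠ 0 := by
    intro U hU hsU
    by_contra hc
    simp only [not_exists, not_and, not_not] at hc
    have hle : U ⊔ Submodule.span F {s} ≤ Q := sup_le hU ((Submodule.span_singleton_le_iff_mem _ _).2 hsQ)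
    have h1 := dim_perp_inf hQn hle
    have h2 := dim_perp_inf hQn hU
    have h3 : finrank F ↥(Q ⊓ P.perp U) ≤ finrank F ↥(Q ⊓ P.perp (U ⊔ Submodule.span F {s})) := by
      refine Submodule.finrank_mono fun y hy => ⟨hy.1, fun w hw => ?_⟩
      obtain ⟨a, ha, b, hb, rfl⟩ := Submodule.mem_sup.mp hw
      obtain ⟨c, rfl⟩ := Submodule.mem_span_singleton.mp hb
      rw [map_add, LinearMap.add_apply, hy.2 a ha, map_smul, LinearMap.smul_apply,
        hc y hy.1 hy.2, smul_zero, add_zero]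
    have h4 : U < U ⊔ Submodule.span F {s} := lt_of_le_not_ge le_sup_left fun h =>
      hsU (h (Submodule.mem_sup_right (Submodule.mem_span_singleton_self s)))
    have := Submodule.finrank_lt_finrank_of_lt h4
    omega
  have hsW : Even n → s ∈ W := by
    rintro ⟨j, rfl⟩
    have hm : (S ^ j) v ∈ W := by
      have hSW : ∀ x ∈ W, S x ∈ W := fun x hx => by
        rw [← hS, LinearMap.sub_apply]
        exact sub_mem ((hW ▸ cyc_stable _ _ : ∀ x ∈ W, P.T x ∈ W) x hx) (W.smul_mem _ hx)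
      have hmem : ∀ i : ℕ, (S ^ i) v ∈ W := fun i => by
        induction i with
        | zero => rw [← hW]; exact self_mem_cyc _ _
        | succ i ih => rw [pow_succ', Module.End.mul_apply]; exact hSW _ ih
      exact hmem j
    have hc : (S ^ j) v = e ^ j • s := by
      rw [hNS, Module.End.mul_apply, two_mul, hgis' v hv j, hs]
    have := W.smul_mem (e ^ j) hm
    rwa [hc, smul_smul, ← mul_pow, he, one_pow, one_smul] at this
  -- the second generator
  have pair : ∀ y ∈ Q, P.ω s y ≠ 0 →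
      P.Inv (cyc P.G v ⊔ cyc P.G y) ∧ P.Nd (cyc P.G v ⊔ cyc P.G y) ∧
        cyc P.G v ⊔ cyc P.G y ≤ Submodule.span F {v} ⊔ Submodule.span F {y} ⊔
          (cyc P.G v ⊔ cyc P.G y).map (P.N e) ∧
        ∀ a b : F, (P.ω (a • (P.N e ^ n) v + b • (P.N e ^ n) y) v = 0) →
          (P.ω (a • (P.N e ^ n) v + b • (P.N e ^ n) y) y = 0) → a = 0 ∧ b = 0 := by
    intro y hy hsy
    have hinv : P.Inv (cyc P.G v ⊔ cyc P.G y) := by
      intro x hx
      obtain ⟨a, ha, b, hb, rfl⟩ := Submodule.mem_sup.mp hx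
      rw [map_add]
      exact Submodule.add_mem_sup (cyc_stable _ _ a ha) (cyc_stable _ _ b hb)
    have hst : cyc P.G v ⊔ cyc P.G y ≤ Submodule.span F {v} ⊔ Submodule.span F {y} ⊔
        (cyc P.G v ⊔ cyc P.G y).map (P.N e) := by
      rw [Submodule.map_sup]
      exact sup_le (step_span.trans (sup_le_sup le_sup_left le_sup_left))
        (step_span.trans (sup_le_sup le_sup_right le_sup_right))
    have hy0 : y ≠ 0 := fun h => hsy (by rw [h, map_zero])
    have htv : P.ω ((P.N e ^ n) y) v ≠ 0 := by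
      rw [adjNpow, Module.End.mul_apply, hgis' v hv, hs, map_smul, smul_eq_mul, P.skew y s]
      refine mul_ne_zero (pow_ne_zero _ (neg_ne_zero.2 ?_))
        (mul_ne_zero (pow_ne_zero _ ?_) (neg_ne_zero.2 hsy))
      all_goals exact left_ne_zero_of_mul_eq_one he
    have hsoc : ∀ a b : F, (P.ω (a • (P.N e ^ n) v + b • (P.N e ^ n) y) v = 0) →
        (P.ω (a • (P.N e ^ n) v + b • (P.N e ^ n) y) y = 0) → a = 0 ∧ b = 0 := by
      intro a b ha hb
      simp [hs, hsv, htop y hy hy0, htv, hsy] at ha hb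
      exact ⟨hb, ha⟩
    refine ⟨hinv, nd_of_socle he hinv (fun x hx => hnil x (sup_le (cyc_le hv hQ) (cyc_le hy hQ) hx))
      hst fun a b hab => ?_, hst, hsoc⟩
    obtain ⟨rfl, rfl⟩ := hsoc a b (hab v (Submodule.mem_sup_left (self_mem_cyc _ _)))
      (hab y (Submodule.mem_sup_right (self_mem_cyc _ _)))
    simp
  have hZne : ∀ y, cyc P.G v ⊔ cyc P.G y ≠ ⊥ := fun y h => hv0 ((Submodule.mem_bot F).mp
    (h ▸ Submodule.mem_sup_left (self_mem_cyc P.G v)))
  have hdimeq := Submodule.finrank_sup_add_finrank_inf_eq W (W.map P.G)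
  rw [← hWG, P.finrank_mapG W] at hdimeq
  obtain hodd | heven := n.even_or_odd.symm
  · -- an even number of layers
    have hsW' : s ∉ W := by
      intro h
      have hmem : e • s ∈ W ⊓ W.map P.G := ⟨W.smul_mem _ h, s, h, hgs'⟩
      have hbot : W ⊓ W.map P.G = ⊥ := Submodule.finrank_eq_zero.mp (by
        obtain ⟨j, rfl⟩ := hodd
        omega)
      rw [hbot, Submodule.mem_bot, smul_eq_zero] at hmem
      exact hmem.elim (left_ne_zero_of_mul_eq_one he) hs0
    obtain ⟨y, hy, hyW, hsy⟩ := hsep W hWQ hsW'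
    obtain ⟨hinv, hnD, -, -⟩ := pair y hy hsy
    refine hno ⟨_, sup_le (cyc_le hv hQ) (cyc_le hy hQ), hZne y, hinv, hnD, (res_of_generated hnD
      (L := W ⊔ cyc P.T y) ?_ ?_ ?_ ?_).1⟩
    · exact sup_le_sup (hWG ▸ le_sup_left) (cycG_eq (P := P) y ▸ le_sup_left)
    · have hcross : ∀ a ∈ W, ∀ b ∈ cyc P.T y, P.ω a b = 0 := by
        intro a ha b hb
        obtain ⟨q, rfl⟩ := mem_cyc.mp hb
        rw [← P.adjPoly]
        exact hyW _ (poly_mem (hW ▸ cyc_stable _ _) q a ha)
      intro a ha b hb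
      obtain ⟨a1, ha1, a2, ha2, rfl⟩ := Submodule.mem_sup.mp ha
      obtain ⟨b1, hb1, b2, hb2, rfl⟩ := Submodule.mem_sup.mp hb
      simp [(hW ▸ cycT_iso v : P.Iso W) a1 ha1 b1 hb1, hcross a1 ha1 b2 hb2,
        P.zero_symm (hcross b1 hb1 a2 ha2), cycT_iso y a2 ha2 b2 hb2]
    · intro a ha
      obtain ⟨a1, ha1, a2, ha2, rfl⟩ := Submodule.mem_sup.mp ha
      rw [map_add]
      exact Submodule.add_mem_sup ((hW ▸ cyc_stable _ _ : ∀ x ∈ W, P.T x ∈ W) a1 ha1)
        (cyc_stable _ _ a2 ha2)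
    · rw [hWG, cycG_eq y, Submodule.map_sup, sup_sup_sup_comm]
  · -- an odd number of layers
    obtain ⟨j, hj⟩ := heven
    have hNW : finrank F (W.map (P.N e)) ≤ j := by
      have : W.map (P.N e) ≤ Submodule.span F (Set.range fun i : Fin j => P.N e ((S ^ (i : ℕ)) v)) := by
        refine (Submodule.map_mono hspan).trans ?_
        rw [Submodule.map_span, Submodule.span_le]
        rintro _ ⟨_, ⟨i, rfl⟩, rfl⟩
        by_cases hi : (i : ℕ) < j
        · exact Submodule.subset_span ⟨⟨i, hi⟩, rfl⟩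
        · have hij : (i : ℕ) = j := by omega
          have : P.N e ((S ^ (i : ℕ)) v) = 0 := by
            rw [hij, hNS, ← Module.End.mul_apply, ← mul_assoc, ((P.commNGi e).pow_right j).eq,
              mul_assoc, ← pow_succ', Module.End.mul_apply,
              N_pow_zero hnil hv (by omega : n + 1 ≤ 2 * j + 1), map_zero]
          rw [this]; exact zero_mem _
      exact (Submodule.finrank_mono this).trans ((finrank_range_le_card _).trans_eq (Fintype.card_fin _))
    have hsN : s ∉ W.map (P.N e) := by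
      intro h
      have hle : cyc P.G v ≤ W ⊔ W.map (P.N e) := by
        rw [hWG]
        refine sup_le le_sup_left ?_
        rintro _ ⟨a, ha, rfl⟩
        rw [G_eq_N e]
        exact Submodule.add_mem _ (Submodule.mem_sup_right ⟨a, ha, rfl⟩)
          (Submodule.mem_sup_left (W.smul_mem _ ha))
      have h1 := Submodule.finrank_sup_add_finrank_inf_eq W (W.map (P.N e))
      have h2 : 1 ≤ finrank F ↥(W ⊓ W.map (P.N e)) := by
        have hls : Submodule.span F {s} ≤ W ⊓ W.map (P.N e) :=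
          (Submodule.span_singleton_le_iff_mem _ _).2 ⟨hsW ⟨j, hj⟩, h⟩
        simpa [finrank_span_singleton hs0] using Submodule.finrank_mono hls
      have := Submodule.finrank_mono hle
      omega
    let U := W.map (P.Gi * P.N e)
    have hUQ : U ≤ Q := by rintro _ ⟨a, ha, rfl⟩; exact hQ.gi _ (hQ.n e a (hWQ ha))
    have hsU : s ∉ U := by
      rintro ⟨a, ha, h⟩
      refine hsN ⟨e • a, W.smul_mem _ ha, ?_⟩
      have := congrArg P.G h
      rw [Module.End.mul_apply, G_Gi_apply, hgs'] at this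
      rw [map_smul, this, smul_smul, he, one_smul]
    obtain ⟨y, hy, hyW, hsy⟩ := hsep U hUQ hsU
    obtain ⟨hinv, hnD, hst, hsoc⟩ := pair y hy hsy
    refine hno ⟨_, sup_le (cyc_le hv hQ) (cyc_le hy hQ), hZne y, hinv, hnD, ?_⟩
    generalize hDdef : cyc P.G v ⊔ cyc P.G y = D at hinv hnD hst
    let L := W ⊔ (cyc P.T y).map (P.N e)
    have hWT : ∀ x ∈ W, P.T x ∈ W := hW ▸ cyc_stable _ _
    have hLD : L ≤ D := by
      rw [← hDdef]
      refine sup_le_sup (hWG ▸ le_sup_left) ?_
      rintro _ ⟨a, ha, rfl⟩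
      exact Inv.n (cyc_stable _ _) e a (cyc_le (self_mem_cyc _ _) (Inv.t (cyc_stable _ _)) ha)
    have hLi : P.Iso L := by
      have hcross : ∀ a ∈ W, ∀ b ∈ (cyc P.T y).map (P.N e), P.ω a b = 0 := by
        rintro a ha _ ⟨b, hb, rfl⟩
        obtain ⟨q, rfl⟩ := mem_cyc.mp hb
        rw [comm_apply (comm_aeval (P.commNT e) q), ← P.adjPoly, P.skew, adjN he, P.skew]
        have := hyW _ ⟨_, poly_mem hWT q a ha, rfl⟩
        rw [Module.End.mul_apply] at this
        simp [this]
      have hyy : ∀ a ∈ (cyc P.T y).map (P.N e), ∀ b ∈ (cyc P.T y).map (P.N e), P.ω a b = 0 := by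
        rintro _ ⟨a, ha, rfl⟩ _ ⟨b, hb, rfl⟩
        have hsb : P.Gi (P.N e (P.N e b)) = S b := by
          rw [← Module.End.mul_apply (P.N e), ← sq, ← hSN, Module.End.mul_apply, Gi_G_apply]
        have hSb : S b ∈ cyc P.T y := by
          rw [← hS]
          simp only [LinearMap.sub_apply, LinearMap.smul_apply, Module.End.one_apply]
          exact sub_mem (cyc_stable _ _ b hb) (Submodule.smul_mem _ _ hb)
        rw [adjN he, hsb, cycT_iso y a ha _ hSb, mul_zero]
      intro a ha b hb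
      obtain ⟨a1, ha1, a2, ha2, rfl⟩ := Submodule.mem_sup.mp ha
      obtain ⟨b1, hb1, b2, hb2, rfl⟩ := Submodule.mem_sup.mp hb
      simp [(hW ▸ cycT_iso v : P.Iso W) a1 ha1 b1 hb1, hcross a1 ha1 b2 hb2,
        P.zero_symm (hcross b1 hb1 a2 ha2), hyy a2 ha2 b2 hb2]
    have hLT : ∀ x ∈ L, P.T x ∈ L := by
      intro x hx
      obtain ⟨a, ha, _, ⟨b, hb, rfl⟩, rfl⟩ := Submodule.mem_sup.mp hx
      rw [map_add, ← comm_apply (P.commNT e)]
      exact Submodule.add_mem_sup (hWT a ha) ⟨_, cyc_stable _ _ b hb, rfl⟩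
    have hsL : s ∈ L := Submodule.mem_sup_left (hsW ⟨j, hj⟩)
    have hI : Submodule.span F {s} ≤ L ⊓ L.map P.G := by
      refine (Submodule.span_singleton_le_iff_mem _ _).2 ⟨hsL, e • s, L.smul_mem _ hsL, ?_⟩
      rw [map_smul, hgs', smul_smul, he, one_smul]
    have hbig : D ≤ (L ⊔ L.map P.G) ⊔ Submodule.span F {y} := by
      rw [← hDdef]
      refine sup_le ?_ ?_
      · rw [hWG]
        exact le_sup_of_le_left (sup_le_sup le_sup_left (Submodule.map_mono le_sup_left))
      · refine (step_span (e := e)).trans (sup_le le_sup_right (le_sup_of_le_left ?_))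
        rw [cycG_eq y, Submodule.map_sup]
        refine sup_le (le_sup_of_le_left le_sup_right) (le_sup_of_le_right ?_)
        rintro _ ⟨_, ⟨a, ha, rfl⟩, rfl⟩
        exact ⟨P.N e a, Submodule.mem_sup_right ⟨a, ha, rfl⟩, (comm_apply (P.commNG e) a).symm⟩
    have hy1 : finrank F (Submodule.span F {y}) ≤ 1 :=
      le_of_eq (finrank_span_singleton fun h => hsy (by rw [h, map_zero]))
    have hs1 : finrank F (Submodule.span F {s}) = 1 := finrank_span_singleton hs0
    have q1 := Submodule.finrank_mono hbig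
    have q2 := Submodule.finrank_add_le_finrank_add_finrank (L ⊔ L.map P.G) (Submodule.span F {y})
    have q3 := Submodule.finrank_sup_add_finrank_inf_eq L (L.map P.G)
    have q4 : finrank F (L.map P.G) = finrank F L := P.finrank_mapG L
    have q5 := iso_half hnD hLD hLi
    have q6 := dim_perp_inf hnD hLD
    have q7 := Submodule.finrank_mono hI
    have hIeq : Submodule.span F {s} = L ⊓ L.map P.G :=
      Submodule.eq_of_le_of_finrank_le hI (by omega)
    have hlag : D ⊓ P.perp L ≤ L :=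
      (Submodule.eq_of_le_of_finrank_le (show L ≤ D ⊓ P.perp L from
        fun x hx => ⟨hLD hx, fun y hy => hLi y hy x hx⟩) (by omega)).ge
    have hK : ∀ x ∈ L, P.G x ∈ L → x ∈ Submodule.span F {s} := by
      intro x hx hgx
      have : P.G x ∈ Submodule.span F {s} := hIeq ▸ Submodule.mem_inf.mpr ⟨hgx, Submodule.mem_map_of_mem hx⟩
      obtain ⟨c, hc⟩ := Submodule.mem_span_singleton.mp this
      have := congrArg P.Gi hc
      rw [Gi_G_apply, map_smul, ← hs, hgis v hv, hs] at this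
      rw [← this]
      exact Submodule.smul_mem _ _ (Submodule.smul_mem _ _ (Submodule.mem_span_singleton_self s))
    by_cases he1 : e = 1
    · refine ⟨L, Submodule.span F {s}, ⊥, hLD, hLi, hlag, hLT,
        (Submodule.span_singleton_le_iff_mem _ _).2 hsL, bot_le, ?_, ?_,
        fun x hx hgx => Submodule.mem_sup_left (hK x hx hgx), fun _ => ?_⟩
      · intro x hx
        obtain ⟨c, rfl⟩ := Submodule.mem_span_singleton.mp hx
        rw [map_smul, hgs', he1, one_smul]
      · rintro x hx; simp [(Submodule.mem_bot F).mp hx]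
      · rw [finrank_bot, hs1]
        omega
    · have hem := he' he1
      refine ⟨L, ⊥, Submodule.span F {s}, hLD, hLi, hlag, hLT, bot_le,
        (Submodule.span_singleton_le_iff_mem _ _).2 hsL, ?_, ?_,
        fun x hx hgx => Submodule.mem_sup_right (hK x hx hgx), fun hgen => ?_⟩
      · rintro x hx; simp [(Submodule.mem_bot F).mp hx]
      · intro x hx
        obtain ⟨c, rfl⟩ := Submodule.mem_span_singleton.mp hx
        rw [map_smul, hgs', hem, neg_one_smul, smul_neg]
      · rw [finrank_bot, hs1]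
        have hvD : v ∈ D := hDdef ▸ Submodule.mem_sup_left (self_mem_cyc _ _)
        have hyD : y ∈ D := hDdef ▸ Submodule.mem_sup_right (self_mem_cyc _ _)
        have hn : n ≠ 0 := by
          rintro rfl
          simp only [pow_zero, Module.End.one_apply] at hs
          refine hsy (hgen s (hs ▸ hvD) y hyD ?_ ?_)
          · rw [hgs', hem, neg_one_smul]
          · have := hgs y hy
            simpa [hem] using this
        -- two layers of rank two above the socle
        have hlayer : ∀ i, i + 1 ≤ n →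
            finrank F (D.map (P.N e ^ (i + 1))) + 2 ≤ finrank F (D.map (P.N e ^ i)) := by
          intro i hi
          have hle : D.map (P.N e ^ (i + 1)) ≤ D.map (P.N e ^ i) := by
            rintro _ ⟨z, hz, rfl⟩
            exact ⟨P.N e z, Inv.n hinv e z hz, by rw [pow_succ, Module.End.mul_apply]⟩
          let φ : F × F →ₗ[F] (D.map (P.N e ^ i) : Submodule F V) ⧸
              (D.map (P.N e ^ (i + 1))).comap (D.map (P.N e ^ i)).subtype :=
            (Submodule.mkQ _).comp (LinearMap.coprod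
              (LinearMap.toSpanSingleton F _ ⟨_, v, hvD, rfl⟩)
              (LinearMap.toSpanSingleton F _ ⟨_, y, hyD, rfl⟩))
          have hφ : Function.Injective φ := by
            rw [← LinearMap.ker_eq_bot, Submodule.eq_bot_iff]
            rintro ⟨a, b⟩ hab
            rw [LinearMap.mem_ker, LinearMap.comp_apply, Submodule.mkQ_apply,
              Submodule.Quotient.mk_eq_zero, Submodule.mem_comap] at hab
            obtain ⟨z, hz, hz'⟩ := hab
            have e0 := congrArg (P.N e ^ (n - i)) hz'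
            simp only [Submodule.coe_subtype, LinearMap.coprod_apply, LinearMap.toSpanSingleton_apply,
              Submodule.coe_add, Submodule.coe_smul, map_add, map_smul, ← Module.End.mul_apply,
              ← pow_add] at e0
            rw [show n - i + (i + 1) = n + 1 by omega, show n - i + i = n by omega,
              hnil z (hDdef ▸ sup_le (cyc_le hv hQ) (cyc_le hy hQ) |> fun h => h hz)] at e0
            obtain ⟨rfl, rfl⟩ := hsoc a b (by rw [← e0, map_zero]; rfl) (by rw [← e0, map_zero]; rfl)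
            rfl
          have h1 := LinearMap.finrank_le_finrank_of_injective hφ
          have h2 := Submodule.finrank_quotient_add_finrank
            ((D.map (P.N e ^ (i + 1))).comap (D.map (P.N e ^ i)).subtype)
          rw [(Submodule.comapSubtypeEquivOfLe hle).finrank_eq] at h2
          rw [Module.finrank_prod, Module.finrank_self] at h1
          omega
        have l0 := hlayer 0 (by omega)
        rw [pow_zero, Module.End.one_eq_id, Submodule.map_id] at l0
        have l1 := hlayer 1 (by omega)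
        simp only [zero_add, Nat.reduceAdd] at l0 l1
        have l2 : 1 ≤ finrank F (D.map (P.N e ^ 2)) := by
          have hmem : Submodule.span F {s} ≤ D.map (P.N e ^ 2) := by
            refine (Submodule.span_singleton_le_iff_mem _ _).2 ⟨(P.N e ^ (n - 2)) v, ?_, ?_⟩
            · exact poly_mem (A := P.N e) (Inv.n hinv e) (Polynomial.X ^ (n - 2)) v hvD |>
                fun h => by simpa using h
            · rw [← Module.End.mul_apply, ← pow_add, show 2 + (n - 2) = n by omega, hs]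
          simpa [hs1] using Submodule.finrank_mono hmem
        omega

end nilpotent

theorem res_all : ∀ Q : Submodule F V, P.Inv Q → P.Nd Q → P.Res Q := by
  suffices ∀ (m : ℕ) (Q : Submodule F V), finrank F Q = m → P.Inv Q → P.Nd Q → P.Res Q from
    fun Q => this _ Q rfl
  intro m
  induction m using Nat.strong_induction_on with
  | _ m ih =>
  intro Q hm hQ hQn
  by_cases hQ0 : Q = ⊥
  · subst hQ0
    refine ⟨⊥, ⊥, ⊥, le_rfl, ?_, inf_le_left, ?_, le_rfl, le_rfl, ?_, ?_, ?_, fun _ => by simp⟩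
    all_goals simp [Iso]
  suffices hp : P.Peel Q by
    obtain ⟨D, hDQ, hD0, hD, hDn, hR⟩ := hp
    refine res_combine hDQ hD hDn hQ hR (ih _ ?_ _ rfl (hD.inf_perp hQ) ?_)
    · rw [← hm, ← dim_perp_inf hQn hDQ]
      have : finrank F D ≠ 0 := fun h => hD0 (Submodule.finrank_eq_zero.mp h)
      omega
    · intro x hx h
      refine hQn x hx.1 fun y hy => ?_
      have : y ∈ D ⊔ P.perp D := by rw [hDn.isCompl.sup_eq_top]; trivial
      obtain ⟨a, ha, b, hb, rfl⟩ := Submodule.mem_sup.mp this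
      rw [map_add, P.zero_symm (hx.2 a ha), h b ⟨(Q.add_mem_iff_right (hDQ ha)).mp hy, hb⟩, add_zero]
  by_cases h : (∀ x ∈ Q, P.G x = x → x = 0) ∧ (∀ x ∈ Q, P.G x = -x → x = 0)
  · exact peel_no_eigen hQ hQn hQ0 h.1 h.2
  obtain ⟨e, x0, he, he', hx0, hgx, hx0'⟩ : ∃ (e : F) (x : V), e * e = 1 ∧ (e ≠ 1 → e = -1) ∧ x ∈ Q ∧
      P.G x = e • x ∧ x ≠ 0 := by
    simp only [not_and_or, not_forall, exists_prop] at h
    obtain ⟨x, hx, hgx, hx'⟩ | ⟨x, hx, hgx, hx'⟩ := h
    · exact ⟨1, x, one_mul 1, fun h => absurd rfl h, hx, by rw [one_smul, hgx], hx'⟩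
    · exact ⟨-1, x, by rw [neg_mul_neg, one_mul], fun _ => rfl, hx, by rw [neg_one_smul, hgx], hx'⟩
  let NQ : Module.End F Q := (P.N e).restrict (hQ.n e)
  obtain ⟨d, hd, hd1⟩ := ((LinearMap.eventually_isCompl_ker_pow_range_pow NQ).and
    (Filter.eventually_ge_atTop 1)).exists
  have hNQ : ∀ (i : ℕ) (x : Q), ((NQ ^ i) x : V) = (P.N e ^ i) x := restrict_pow_coe (hQ.n e)
  let E : Submodule F V := Q ⊓ LinearMap.ker (P.N e ^ d)
  have hE : P.Inv E := fun x hx => ⟨hQ x hx.1, by
    rw [SetLike.mem_coe, LinearMap.mem_ker, comm_apply ((P.commNG e).pow_left d),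
      LinearMap.mem_ker.mp hx.2, map_zero]⟩
  have hEn : P.Nd E := by
    intro x hx h
    refine hQn x hx.1 fun y hy => ?_
    have : (⟨y, hy⟩ : Q) ∈ LinearMap.ker (NQ ^ d) ⊔ LinearMap.range (NQ ^ d) := by
      rw [hd.sup_eq_top]; trivial
    obtain ⟨a, ha, _, ⟨b, rfl⟩, hab⟩ := Submodule.mem_sup.mp this
    have hy' : (a : V) + (P.N e ^ d) b = y := by rw [← hNQ]; exact congrArg Subtype.val hab
    have haE : (a : V) ∈ E := ⟨a.2, by
      rw [SetLike.mem_coe, LinearMap.mem_ker, ← hNQ, LinearMap.mem_ker.mp ha]; rfl⟩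
    -- the range is orthogonal to the kernel
    have hadj : ∀ (i : ℕ) (x : V), x ∈ Q → (P.N e ^ i) x = 0 → ∀ w, P.ω x ((P.N e ^ i) w) = 0 := by
      intro i
      induction i with
      | zero => intro x _ hx w; simp_all
      | succ i ih' =>
        intro x hxQ hx w
        rw [pow_succ', Module.End.mul_apply, P.skew, adjN he, P.skew, ih' (P.Gi (P.N e x))
          (hQ.gi _ (hQ.n e x hxQ)) ?_ w]
        · simp
        · rw [comm_apply ((P.commNGi e).pow_left i), ← Module.End.mul_apply (P.N e ^ i), ← pow_succ, hx,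
            map_zero]
    rw [← hy', map_add, h _ haE, hadj d x hx.1 hx.2, add_zero]
  have hNx0 : P.N e x0 = 0 := by simp [N, hgx]
  have hx0E : x0 ∈ E := ⟨hx0, by
    obtain ⟨c, rfl⟩ : ∃ c, d = c + 1 := ⟨d - 1, by omega⟩
    rw [SetLike.mem_coe, LinearMap.mem_ker, pow_succ, Module.End.mul_apply, hNx0, map_zero]⟩
  have hex : ∃ n, ∀ x ∈ E, (P.N e ^ n) x = 0 := ⟨d, fun x hx => hx.2⟩
  obtain ⟨n, hn, hmin⟩ : ∃ n, (∀ x ∈ E, (P.N e ^ n) x = 0) ∧
      ∀ i < n, ¬ ∀ x ∈ E, (P.N e ^ i) x = 0 := by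
    classical
    exact ⟨_, Nat.find_spec hex, fun i hi => Nat.find_min hex hi⟩
  obtain ⟨k, rfl⟩ : ∃ k, n = k + 1 :=
    Nat.exists_eq_succ_of_ne_zero fun h0 => hx0' (by simpa [h0] using hn x0 hx0E)
  have := hmin k (Nat.lt_succ_self k)
  simp only [not_forall, exists_prop] at this
  obtain ⟨v, hv, hv'⟩ := this
  obtain ⟨D, hDE, rest⟩ := peel_nilpotent he he' hE hEn hn hv hv'
  exact ⟨D, hDE.trans inf_le_left, rest⟩

end SSp

end Cfsg.Lib.SympComm
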