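import Cfsg.Agent.Classical.SympComm.Adm
import Cfsg.Agent.Classical.SympComm.Lagr

/-!
Every symplectic matrix whose `-1` eigenspace is totally isotropic is conjugate to one with a sign
matrix as upper left block.
-/

set_option autoImplicit false
set_option linter.unusedSectionVars false

open Matrix Module

namespace Cfsg.Lib.SympComm

universe u

variable {F : Type u} [Field F] {ι : Type} [Fintype ι] [DecidableEq ι]

/-- The standard alternating form. -/
noncomputable def sform (ι : Type) [Fintype ι] [DecidableEq ι] (F : Type u) [Field F] :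
    LinearMap.BilinForm F (ι ⊕ ι → F) :=
  Matrix.toBilin' (-Matrix.J ι F)

theorem sform_eq (x y : ι ⊕ ι → F) :
    sform ι F x y = (∑ i, x (Sum.inl i) * y (Sum.inr i)) - ∑ i, x (Sum.inr i) * y (Sum.inl i) := by
  rw [sform, Matrix.toBilin'_apply', Matrix.J, Matrix.fromBlocks_neg, Matrix.fromBlocks_mulVec]
  simp [dotProduct, Fintype.sum_sum_type, Matrix.one_mulVec, Matrix.neg_mulVec, sub_eq_add_neg]

theorem sform_alt : (sform ι F).IsAlt := fun x => by
  rw [sform_eq, sub_eq_zero]
  exact Finset.sum_congr rfl fun i _ => mul_comm _ _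

theorem sform_nd : (sform ι F).Nondegenerate := by
  refine LinearMap.BilinForm.nondegenerate_toBilin'_iff_det_ne_zero.mpr ?_
  have := Matrix.isUnit_det_J ι F
  rw [Matrix.det_neg]
  exact mul_ne_zero (pow_ne_zero _ (neg_ne_zero.2 one_ne_zero)) this.ne_zero

/-- The isometry given by a symplectic matrix. -/
noncomputable def ssp (g : Matrix.symplecticGroup ι F) : SSp F (ι ⊕ ι → F) where
  ω := sform ι F
  alt := sform_alt
  nd := sform_nd
  g := LinearEquiv.ofLinearMap (Matrix.toLin' (g : Matrix (ι ⊕ ι) (ι ⊕ ι) F))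
    (Matrix.toLin' (g⁻¹ : Matrix.symplecticGroup ι F).1)
    (by rw [← Matrix.toLin'_mul, ← Submonoid.coe_mul, mul_inv_cancel, Submonoid.coe_one, Matrix.toLin'_one])
    (by rw [← Matrix.toLin'_mul, ← Submonoid.coe_mul, inv_mul_cancel, Submonoid.coe_one, Matrix.toLin'_one])
  pres := fun x y => by
    have h := SymplecticGroup.mem_iff'.mp g.2
    change sform ι F (Matrix.toLin' _ x) (Matrix.toLin' _ y) = _
    rw [sform, ← LinearMap.BilinForm.comp_apply, Matrix.toBilin'_comp]
    simp only [Matrix.mul_neg, Matrix.neg_mul, h]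

theorem ssp_G (g : Matrix.symplecticGroup ι F) (x : ι ⊕ ι → F) :
    (ssp g).G x = (g : Matrix (ι ⊕ ι) (ι ⊕ ι) F) *ᵥ x := rfl

theorem sform_cols {κ : Type} (A B : Matrix (ι ⊕ ι) κ F) (i j : κ) :
    (Aᵀ * -Matrix.J ι F * B) i j = sform ι F (fun r => A r i) (fun r => B r j) := by
  rw [sform, Matrix.toBilin'_apply', Matrix.mul_assoc]
  rfl

theorem negJ_entries (Q : Matrix (ι ⊕ ι) (ι ⊕ ι) F) (i : ι) (j : ι ⊕ ι) :
    (-Matrix.J ι F * Q) (Sum.inl i) j = Q (Sum.inr i) j ∧
      (-Matrix.J ι F * Q) (Sum.inr i) j = -Q (Sum.inl i) j := by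
  constructor <;> simp [Matrix.J, Matrix.mul_apply, Fintype.sum_sum_type, Matrix.one_apply]

/-- The matrix with given columns is symplectic. -/
theorem cols_mem (c : ι ⊕ ι → ι ⊕ ι → F)
    (h1 : ∀ i j, sform ι F (c (Sum.inl i)) (c (Sum.inl j)) = 0)
    (h2 : ∀ i j, sform ι F (c (Sum.inr i)) (c (Sum.inr j)) = 0)
    (h3 : ∀ i j, sform ι F (c (Sum.inl i)) (c (Sum.inr j)) = if i = j then 1 else 0) :
    (Matrix.of fun r k => c k r) ∈ Matrix.symplecticGroup ι F := by
  rw [SymplecticGroup.mem_iff']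
  apply neg_injective
  rw [← Matrix.neg_mul, ← Matrix.mul_neg]
  ext i j
  rw [sform_cols]
  simp only [Matrix.of_apply]
  obtain i | i := i <;> obtain j | j := j
  · simp [h1, Matrix.J]
  · simp [h3, Matrix.J, Matrix.one_apply]
  · rw [← sform_alt.neg_eq, h3]
    simp [Matrix.J, Matrix.one_apply, eq_comm]
  · simp [h2, Matrix.J]

/-- Entries of a conjugate through the form. -/
theorem conj_entries (P g : Matrix.symplecticGroup ι F) (i j : ι ⊕ ι) :
    (-Matrix.J ι F * ((P⁻¹ * g * P : Matrix.symplecticGroup ι F) : Matrix (ι ⊕ ι) (ι ⊕ ι) F)) i j =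
      sform ι F (fun r => (P : Matrix (ι ⊕ ι) (ι ⊕ ι) F) r i)
        ((g : Matrix (ι ⊕ ι) (ι ⊕ ι) F) *ᵥ fun r => (P : Matrix (ι ⊕ ι) (ι ⊕ ι) F) r j) := by
  have hP := SymplecticGroup.mem_iff'.mp P.2
  have e : (P : Matrix (ι ⊕ ι) (ι ⊕ ι) F) * ((P⁻¹ * g * P : Matrix.symplecticGroup ι F) : Matrix _ _ F) =
      (g : Matrix _ _ F) * (P : Matrix _ _ F) := by
    rw [← Submonoid.coe_mul, ← Submonoid.coe_mul, mul_assoc P⁻¹, mul_inv_cancel_left]
  have h2 : -Matrix.J ι F * ((P⁻¹ * g * P : Matrix.symplecticGroup ι F) : Matrix (ι ⊕ ι) (ι ⊕ ι) F) =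
      (P : Matrix (ι ⊕ ι) (ι ⊕ ι) F)ᵀ * -Matrix.J ι F *
        ((g : Matrix (ι ⊕ ι) (ι ⊕ ι) F) * (P : Matrix (ι ⊕ ι) (ι ⊕ ι) F)) := by
    rw [← e, ← Matrix.mul_assoc]
    congr 1
    rw [Matrix.mul_neg, Matrix.neg_mul, hP]
  refine (congrFun (congrFun h2 i) j).trans ?_
  exact sform_cols _ _ i j

open SSp in
/-- A stable Lagrangian with a suitable basis gives the wanted conjugate. -/
theorem frame_of_basis (g : Matrix.symplecticGroup ι F) (L : Submodule F (ι ⊕ ι → F)) (e : ι → ι ⊕ ι → F)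
    (s : ι → F) (hL : (ssp g).Iso L) (hmax : (ssp g).perp L ≤ L) (he : ∀ i, e i ∈ L)
    (hspan : L ≤ Submodule.span F (Set.range e))
    (hc : ∀ i j, s i * sform ι F ((ssp g).G (e j)) (e i) = s j * sform ι F ((ssp g).G (e i)) (e j))
    (hdis : ∀ a : ι → F, (ssp g).G (∑ i, a i • e i) ∈ L →
      ∑ i, a i • ((ssp g).G (e i) - s i • e i) = 0) :
    ∃ P : Matrix.symplecticGroup ι F, ∀ i j,
      ((P⁻¹ * g * P : Matrix.symplecticGroup ι F) : Matrix (ι ⊕ ι) (ι ⊕ ι) F) (Sum.inl i) (Sum.inl j) =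
        Matrix.diagonal s i j := by
  classical
  have hw : (ssp g).ω = sform ι F := rfl
  have hcard : finrank F (ι ⊕ ι → F) = 2 * Fintype.card ι := by
    rw [Module.finrank_fintype_fun_eq_card, Fintype.card_sum]; ring
  have hLm : finrank F L = Fintype.card ι := by
    have e1 : finrank F ((ssp g).perp L) = finrank F (ι ⊕ ι → F) - finrank F L :=
      LinearMap.BilinForm.finrank_orthogonal (ssp g).nd L
    have e2 := Submodule.finrank_mono hmax
    have e3 : finrank F L ≤ finrank F ((ssp g).perp L) :=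
      Submodule.finrank_mono fun x hx y hy => hL y hy x hx
    have e4 := L.finrank_le
    omega
  let h : ι → ι ⊕ ι → F := fun i => (ssp g).G (e i) - s i • e i
  -- the seed is isotropic and avoids `L`
  let C : Set (Submodule F (ι ⊕ ι → F)) :=
    {U | Submodule.span F (Set.range h) ≤ U ∧ (ssp g).Iso U ∧ U ⊓ L = ⊥}
  have hseed : Submodule.span F (Set.range h) ∈ C := by
    refine ⟨le_rfl, ?_, ?_⟩
    · intro x hx y hy
      obtain ⟨a, rfl⟩ := (Submodule.mem_span_range_iff_exists_fun F).mp hx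
      obtain ⟨b, rfl⟩ := (Submodule.mem_span_range_iff_exists_fun F).mp hy
      have hh : ∀ i j, (ssp g).ω (h i) (h j) = 0 := fun i j => by
        have e1 := hc i j
        simp only [← hw] at e1
        simp only [h, map_sub, map_smul, LinearMap.sub_apply, LinearMap.smul_apply, (ssp g).presG,
          hL _ (he i) _ (he j), smul_eq_mul, (ssp g).skew (e i) ((ssp g).G (e j))]
        linear_combination e1
      simp [map_sum, map_smul, LinearMap.sum_apply, LinearMap.smul_apply, hh]
    · rw [Submodule.eq_bot_iff]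
      rintro x ⟨hx, hxL⟩
      obtain ⟨a, rfl⟩ := (Submodule.mem_span_range_iff_exists_fun F).mp hx
      refine hdis a ?_
      have e1 : (ssp g).G (∑ i, a i • e i) = (∑ i, a i • h i) + ∑ i, a i • (s i • e i) := by
        simp only [h, map_sum, map_smul, ← Finset.sum_add_distrib, ← smul_add, sub_add_cancel]
      rw [e1]
      exact L.add_mem hxL (L.sum_mem fun i _ => L.smul_mem _ (L.smul_mem _ (he i)))
  obtain ⟨U, ⟨hU1, hU2, hU3⟩, hUmax⟩ : ∃ U ∈ C, ∀ U' ∈ C, finrank F U' ≤ finrank F U := by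
    have hne : {n : ℕ | ∃ U ∈ C, finrank F U = n}.Nonempty := ⟨_, _, hseed, rfl⟩
    have hbdd : BddAbove {n : ℕ | ∃ U ∈ C, finrank F U = n} :=
      ⟨finrank F (ι ⊕ ι → F), by rintro n ⟨U, -, rfl⟩; exact U.finrank_le⟩
    obtain ⟨U, hU, hn⟩ := Nat.sSup_mem hne hbdd
    exact ⟨U, hU, fun U' hU' => hn ▸ le_csSup hbdd ⟨U', hU', rfl⟩⟩
  have hUm : finrank F U = Fintype.card ι := by
    have a1 := Submodule.finrank_sup_add_finrank_inf_eq U L
    rw [hU3, finrank_bot] at a1
    have a2 : finrank F ((ssp g).perp U) = finrank F (ι ⊕ ι → F) - finrank F U :=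
      LinearMap.BilinForm.finrank_orthogonal (ssp g).nd U
    have a3 : finrank F ((ssp g).perp (U ⊔ L)) = finrank F (ι ⊕ ι → F) - finrank F ↥(U ⊔ L) :=
      LinearMap.BilinForm.finrank_orthogonal (ssp g).nd _
    have a4 := (U ⊔ L).finrank_le
    by_contra hne
    obtain ⟨y, hyU, hy⟩ : ∃ y ∈ (ssp g).perp U, y ∉ U ⊔ L := by
      by_contra hcon
      simp only [not_exists, not_and, not_not] at hcon
      have hUp : U ≤ (ssp g).perp U := fun x hx y hy => hU2 y hy x hx
      have hle : (ssp g).perp U ≤ U ⊔ (ssp g).perp (U ⊔ L) := by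
        intro z hz
        obtain ⟨a, ha, b, hb, rfl⟩ := Submodule.mem_sup.mp (hcon z hz)
        refine Submodule.add_mem_sup ha fun w hw' => ?_
        obtain ⟨c, hc', d, hd, rfl⟩ := Submodule.mem_sup.mp hw'
        have e1 : (ssp g).ω c b = 0 := by
          have := hz c hc'
          rw [map_add] at this
          simpa [hU2 c hc' a ha] using this
        simp [map_add, LinearMap.add_apply, e1, hL d hd b hb]
      have a5 := Submodule.finrank_mono hle
      have a6 := Submodule.finrank_add_le_finrank_add_finrank U ((ssp g).perp (U ⊔ L))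
      omega
    have hnew : U ⊔ Submodule.span F {y} ∈ C := by
      refine ⟨hU1.trans le_sup_left, ?_, ?_⟩
      · intro a ha b hb
        obtain ⟨a1, ha1, a2, ha2, rfl⟩ := Submodule.mem_sup.mp ha
        obtain ⟨b1, hb1, b2, hb2, rfl⟩ := Submodule.mem_sup.mp hb
        obtain ⟨c, rfl⟩ := Submodule.mem_span_singleton.mp ha2
        obtain ⟨d, rfl⟩ := Submodule.mem_span_singleton.mp hb2
        simp [hU2 a1 ha1 b1 hb1, hyU a1 ha1, (ssp g).zero_symm (hyU b1 hb1), (ssp g).alt.self_eq_zero y]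
      · rw [Submodule.eq_bot_iff]
        rintro x ⟨hx, hxL⟩
        obtain ⟨a, ha, b, hb, rfl⟩ := Submodule.mem_sup.mp hx
        obtain ⟨c, rfl⟩ := Submodule.mem_span_singleton.mp hb
        by_cases hc0 : c = 0
        · subst hc0
          simp only [zero_smul, add_zero] at hxL ⊢
          exact (Submodule.eq_bot_iff _).mp hU3 a ⟨ha, hxL⟩
        · refine absurd ?_ hy
          have : c • y ∈ U ⊔ L := by
            rw [show c • y = -a + (a + c • y) by abel]
            exact Submodule.add_mem_sup (U.neg_mem ha) hxL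
          have := (U ⊔ L).smul_mem c⁻¹ this
          rwa [smul_smul, inv_mul_cancel₀ hc0, one_smul] at this
    have hlt : U < U ⊔ Submodule.span F {y} := lt_of_le_not_ge le_sup_left fun hle =>
      hy (Submodule.mem_sup_left (hle (Submodule.mem_sup_right (Submodule.mem_span_singleton_self y))))
    have := Submodule.finrank_lt_finrank_of_lt hlt
    have := hUmax _ hnew
    omega
  -- the dual basis in `U`
  let Φ : U →ₗ[F] ι → F := LinearMap.pi fun k => ((ssp g).ω (e k)).comp U.subtype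
  have hΦ : Function.Injective Φ := by
    rw [← LinearMap.ker_eq_bot, Submodule.eq_bot_iff]
    intro y hy
    have hy' : ∀ k, (ssp g).ω (e k) y = 0 := fun k => congrFun (LinearMap.mem_ker.mp hy) k
    apply Subtype.ext
    refine (Submodule.eq_bot_iff _).mp hU3 _ ⟨y.2, hmax fun z hz => ?_⟩
    obtain ⟨a, rfl⟩ := (Submodule.mem_span_range_iff_exists_fun F).mp (hspan hz)
    simp [map_sum, LinearMap.sum_apply, map_smul, LinearMap.smul_apply, hy']
  have hsurj : Function.Surjective Φ :=
    (LinearMap.injective_iff_surjective_of_finrank_eq_finrank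
      (by rw [hUm, Module.finrank_fintype_fun_eq_card])).mp hΦ
  choose f hf using fun i : ι => hsurj (Pi.single i 1)
  have hef : ∀ k i, (ssp g).ω (e k) (f i) = if k = i then 1 else 0 := fun k i => by
    have := congrFun (hf i) k
    simpa [Φ, Pi.single_apply] using this
  let c : ι ⊕ ι → ι ⊕ ι → F := Sum.elim e fun i => (f i : ι ⊕ ι → F)
  let P : Matrix.symplecticGroup ι F := ⟨Matrix.of fun r k => c k r, cols_mem c
    (fun i j => hL _ (he i) _ (he j)) (fun i j => hU2 _ (f i).2 _ (f j).2) hef⟩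
  refine ⟨P, fun i j => ?_⟩
  have e0 := conj_entries P g (Sum.inr i) (Sum.inl j)
  rw [(negJ_entries _ i _).2] at e0
  have e1 : ((ssp g).ω (f i)) (h j) = 0 := hU2 _ (f i).2 _ (hU1 (Submodule.subset_span ⟨j, rfl⟩))
  simp only [h, map_sub, map_smul, smul_eq_mul, (ssp g).skew (f i) (e j), hef, sub_eq_zero] at e1
  rw [neg_eq_iff_eq_neg] at e0
  rw [e0]
  change -((ssp g).ω (f i) ((ssp g).G (e j))) = _
  rw [e1]
  by_cases hij : i = j
  · subst hij; simp
  · simp [Matrix.diagonal_apply_ne _ hij, Ne.symm hij]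

theorem span_range_coe {W : Submodule F (ι ⊕ ι → F)} {κ : Type} (b : Basis κ F W) :
    Submodule.span F (Set.range fun i => (b i : ι ⊕ ι → F)) = W := by
  rw [show (fun i => (b i : ι ⊕ ι → F)) = W.subtype ∘ b from rfl, Set.range_comp, ← Submodule.map_span,
    b.span_eq, Submodule.map_top, Submodule.range_subtype]

open SSp in
/-- The frame theorem. -/
theorem exists_frame (g : Matrix.symplecticGroup ι F)
    (hgen : (2 : F) ≠ 0 → ∀ x y : ι ⊕ ι → F, (g : Matrix (ι ⊕ ι) (ι ⊕ ι) F) *ᵥ x = -x →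
      (g : Matrix (ι ⊕ ι) (ι ⊕ ι) F) *ᵥ y = -y → sform ι F x y = 0) :
    ∃ (P : Matrix.symplecticGroup ι F) (σ : ι → Bool) (t u : ℕ),
      negCount σ = 2 * t ∧ Fintype.card ι = 3 * t + u ∧ ((2 : F) = 0 → t = 0) ∧ ∀ i j,
      ((P⁻¹ * g * P : Matrix.symplecticGroup ι F) : Matrix (ι ⊕ ι) (ι ⊕ ι) F) (Sum.inl i) (Sum.inl j) =
        sgn σ i j := by
  classical
  obtain ⟨L, Kp, Km, -, hL, hmax, hT, hKp, hKm, gKp, gKm, hK, hbound⟩ :=
    SSp.res_all (P := ssp g) ⊤ (fun x _ => trivial)
      (fun x _ hx => (ssp g).nd.1 x fun y => hx y trivial)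
  replace hmax : (ssp g).perp L ≤ L := fun x hx => hmax ⟨trivial, hx⟩
  have hLm : finrank F L = Fintype.card ι := by
    have e1 : finrank F ((ssp g).perp L) = finrank F (ι ⊕ ι → F) - finrank F L :=
      LinearMap.BilinForm.finrank_orthogonal (ssp g).nd L
    have e2 := Submodule.finrank_mono hmax
    have e3 : finrank F L ≤ finrank F ((ssp g).perp L) :=
      Submodule.finrank_mono fun x hx y hy => hL y hy x hx
    have e4 := L.finrank_le
    have hcard : finrank F (ι ⊕ ι → F) = 2 * Fintype.card ι := by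
      rw [Module.finrank_fintype_fun_eq_card, Fintype.card_sum]; ring
    omega
  -- the twisted form on `L`
  have hsym : ∀ x ∈ L, ∀ y ∈ L, sform ι F ((ssp g).G x) y = sform ι F ((ssp g).G y) x := by
    intro x hx y hy
    have h0 := hL _ (hT x hx) y hy
    rw [SSp.T, LinearMap.add_apply, map_add, LinearMap.add_apply, (ssp g).adjGi, (ssp g).skew x] at h0
    exact add_neg_eq_zero.mp h0
  have finish : ∀ (e : ι → ι ⊕ ι → F) (σ : ι → Bool) (t u : ℕ), negCount σ = 2 * t →
      Fintype.card ι = 3 * t + u → ((2 : F) = 0 → t = 0) → (∀ i, e i ∈ L) →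
      L ≤ Submodule.span F (Set.range e) →
      (∀ i j, σ i ≠ σ j → (2 : F) ≠ 0 → sform ι F ((ssp g).G (e i)) (e j) = 0) →
      (∀ a : ι → F, ∑ i, a i • e i ∈ Kp ⊔ Km →
        ∑ i, a i • ((ssp g).G (e i) - (if σ i then -1 else 1 : F) • e i) = 0) →
      ∃ (P : Matrix.symplecticGroup ι F) (σ : ι → Bool) (t u : ℕ),
        negCount σ = 2 * t ∧ Fintype.card ι = 3 * t + u ∧ ((2 : F) = 0 → t = 0) ∧ ∀ i j,
        ((P⁻¹ * g * P : Matrix.symplecticGroup ι F) : Matrix (ι ⊕ ι) (ι ⊕ ι) F) (Sum.inl i) (Sum.inl j) =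
          sgn σ i j := by
    intro e σ t u h1 h2 h3 he hspan horth hrad
    have hc : ∀ i j, (if σ i then -1 else 1 : F) * sform ι F ((ssp g).G (e j)) (e i) =
        (if σ j then -1 else 1 : F) * sform ι F ((ssp g).G (e i)) (e j) := by
      intro i j
      rw [hsym _ (he j) _ (he i)]
      by_cases hs : σ i = σ j
      · simp only [hs]
      by_cases h20 : (2 : F) = 0
      · have hneg : (-1 : F) = 1 := by linear_combination -h20
        simp only [hneg, ite_self]
      · rw [horth i j hs h20, mul_zero, mul_zero]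
    obtain ⟨P, hP⟩ := frame_of_basis g L e (fun i => if σ i then -1 else 1) hL hmax he hspan hc
      fun a ha => hrad a (hK _ (L.sum_mem fun i _ => L.smul_mem _ (he i)) ha)
    exact ⟨P, σ, t, u, h1, h2, h3, hP⟩
  by_cases h20 : (2 : F) = 0
  · -- characteristic two
    have hneg : ∀ x : ι ⊕ ι → F, -x = x := fun x => by
      rw [← neg_one_smul F x, show (-1 : F) = 1 by linear_combination -h20, one_smul]
    have hfix : ∀ x ∈ Kp ⊔ Km, (ssp g).G x = x := by
      intro x hx
      obtain ⟨a, ha, b, hb, rfl⟩ := Submodule.mem_sup.mp hx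
      rw [map_add, gKp a ha, gKm b hb, hneg]
    let bL := Module.finBasisOfFinrankEq F L hLm
    let ε := Fintype.equivFin ι
    refine finish (fun i => (bL (ε i) : ι ⊕ ι → F)) (fun _ => false) 0 (Fintype.card ι) (by simp [negCount])
      (by simp) (fun _ => rfl) (fun i => (bL (ε i)).2) ?_ (fun i j h => absurd rfl h) fun a ha => ?_
    · rw [show (Set.range fun i => (bL (ε i) : ι ⊕ ι → F)) = Set.range fun k => (bL k : ι ⊕ ι → F) from
        ε.surjective.range_comp fun k => (bL k : ι ⊕ ι → F), span_range_coe]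
    · simp only [Bool.false_eq_true, if_false, one_smul, smul_sub, Finset.sum_sub_distrib, ← map_smul,
        ← map_sum, hfix _ ha, sub_self]
  -- odd characteristic
  have : Invertible (2 : F) := invertibleOfNonzero h20
  have hpm : Disjoint Kp Km := by
    rw [Submodule.disjoint_def]
    intro x hx hx'
    have e0 : (2 : F) • x = 0 := by rw [two_smul, add_eq_zero_iff_eq_neg, ← gKm x hx', gKp x hx]
    exact (smul_eq_zero.mp e0).resolve_left h20
  obtain ⟨M', hM'⟩ := (Kp ⊔ Km).exists_isCompl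
  let M := L ⊓ M'
  have hKL : Kp ⊔ Km ≤ L := sup_le hKp hKm
  have hLsup : (Kp ⊔ Km) ⊔ M = L := by
    refine le_antisymm (sup_le hKL inf_le_left) fun x hx => ?_
    obtain ⟨a, ha, b, hb, rfl⟩ := Submodule.mem_sup.mp
      (show x ∈ (Kp ⊔ Km) ⊔ M' by rw [hM'.sup_eq_top]; trivial)
    exact Submodule.add_mem_sup ha ⟨(L.add_mem_iff_right (hKL ha)).mp hx, hb⟩
  have hKM : ∀ x ∈ Kp ⊔ Km, x ∈ M → x = 0 := fun x hx hx' =>
    Submodule.disjoint_def.mp hM'.disjoint x hx hx'.2
  have hdimM : finrank F Kp + finrank F Km + finrank F M = Fintype.card ι := by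
    have q1 := Submodule.finrank_sup_add_finrank_inf_eq (Kp ⊔ Km) M
    have q2 := Submodule.finrank_sup_add_finrank_inf_eq Kp Km
    have q3 : (Kp ⊔ Km) ⊓ M = ⊥ := (Submodule.eq_bot_iff _).2 fun x hx => hKM x hx.1 hx.2
    rw [hLsup, q3, finrank_bot, hLm] at q1
    rw [hpm.eq_bot, finrank_bot] at q2
    omega
  let B : LinearMap.BilinForm F M := ((ssp g).ω.comp (ssp g).G LinearMap.id).restrict M
  have hB : B.IsSymm := ⟨fun x y => hsym _ x.2.1 _ y.2.1⟩
  obtain ⟨bM, hbM⟩ := LinearMap.BilinForm.exists_orthogonal_basis (LinearMap.BilinForm.isSymm_iff.mp hB)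
  let bp := Module.finBasis F Kp
  let bm := Module.finBasis F Km
  let κ := (Fin (finrank F Kp) ⊕ Fin (finrank F Km)) ⊕ Fin (finrank F M)
  let ε : ι ≃ κ := Fintype.equivOfCardEq (by
    simp only [κ, Fintype.card_sum, Fintype.card_fin]; omega)
  let v : κ → ι ⊕ ι → F := Sum.elim (Sum.elim (fun i => (bp i : ι ⊕ ι → F)) fun i => (bm i : ι ⊕ ι → F))
    fun i => (bM i : ι ⊕ ι → F)
  let τ : κ → Bool := Sum.elim (Sum.elim (fun _ => false) fun _ => true)
    fun i => decide (i.1 < finrank F Km)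
  have hgenK : (ssp g).Gen ⊤ := fun x _ y _ hx hy => hgen h20 x y hx hy
  have hbd := hbound hgenK
  rw [hLm] at hbd
  have hvrange : Submodule.span F (Set.range v) = L := by
    rw [show v = Sum.elim (Sum.elim (fun i => (bp i : ι ⊕ ι → F)) fun i => (bm i : ι ⊕ ι → F))
        fun i => (bM i : ι ⊕ ι → F) from rfl, Set.Sum.elim_range, Set.Sum.elim_range, Submodule.span_union,
      Submodule.span_union, span_range_coe, span_range_coe, span_range_coe]
    exact hLsup
  refine finish (v ∘ ε) (τ ∘ ε) (finrank F Km) (Fintype.card ι - 3 * finrank F Km) ?_ (by omega)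
    (fun h => absurd h h20) ?_ ?_ ?_ ?_
  · have hc : negCount (τ ∘ ε) = ∑ k : κ, if τ k = true then 1 else 0 := by
      rw [negCount, Finset.card_filter]
      exact ε.sum_comp fun k => if τ k = true then 1 else 0
    rw [hc]
    simp only [κ, Fintype.sum_sum_type, τ, Sum.elim_inl, Sum.elim_inr, Bool.false_eq_true, if_false,
      if_true, Finset.sum_const_zero, Finset.sum_const, Finset.card_univ, Fintype.card_fin, zero_add,
      smul_eq_mul, mul_one, decide_eq_true_eq]
    rw [← Finset.card_filter, Fin.card_filter_val_lt, min_eq_right (by omega)]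
    ring
  · intro i
    exact hvrange ▸ Submodule.subset_span ⟨ε i, rfl⟩
  · rw [ε.surjective.range_comp, hvrange]
  · intro i j hne _
    have hrad : ∀ x ∈ Kp ⊔ Km, ∀ y ∈ L, (ssp g).ω ((ssp g).G x) y = 0 := by
      intro x hx y hy
      obtain ⟨a, ha, b, hb, rfl⟩ := Submodule.mem_sup.mp hx
      rw [map_add, gKp a ha, gKm b hb, map_add, LinearMap.add_apply, map_neg, LinearMap.neg_apply,
        hL a (hKp ha) y hy, hL b (hKm hb) y hy, neg_zero, add_zero]
    change (ssp g).ω ((ssp g).G (v (ε i))) (v (ε j)) = 0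
    change τ (ε i) ≠ τ (ε j) at hne
    have hvL : ∀ k, v k ∈ L := fun k => hvrange ▸ Submodule.subset_span ⟨k, rfl⟩
    generalize ε i = k at hne ⊢
    generalize ε j = l at hne ⊢
    rcases k with (k | k) | k
    · exact hrad _ (Submodule.mem_sup_left (bp k).2) _ (hvL _)
    · exact hrad _ (Submodule.mem_sup_right (bm k).2) _ (hvL _)
    rcases l with (l | l) | l
    · exact (hsym _ (hvL _) _ (hvL _)).trans (hrad _ (Submodule.mem_sup_left (bp l).2) _ (hvL _))
    · exact (hsym _ (hvL _) _ (hvL _)).trans (hrad _ (Submodule.mem_sup_right (bm l).2) _ (hvL _))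
    exact hbM fun h => hne (by rw [h])
  · intro a ha
    -- split the combination along the three parts
    let a' : κ → F := a ∘ ε.symm
    have hre : ∀ f : κ → ι ⊕ ι → F, ∑ i, a i • f (ε i) = ∑ k, a' k • f k := fun f => by
      rw [← ε.sum_comp fun k => a' k • f k]
      simp [a']
    have ha' : ∑ k, a' k • v k ∈ Kp ⊔ Km := by rw [← hre v]; exact ha
    have hK' : ∑ k : Fin (finrank F Kp) ⊕ Fin (finrank F Km), a' (Sum.inl k) • v (Sum.inl k) ∈ Kp ⊔ Km := by
      refine Submodule.sum_mem _ fun k _ => Submodule.smul_mem _ _ ?_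
      rcases k with k | k
      · exact Submodule.mem_sup_left (bp k).2
      · exact Submodule.mem_sup_right (bm k).2
    rw [Fintype.sum_sum_type (f := fun k : κ => a' k • v k), Submodule.add_mem_iff_right _ hK'] at ha'
    have hM0 : ∑ k, a' (Sum.inr k) • bM k = 0 := by
      apply Subtype.ext
      rw [Submodule.coe_zero, Submodule.coe_sum]
      refine hKM _ ha' ?_
      exact Submodule.sum_mem _ fun k _ => Submodule.smul_mem _ _ (bM k).2
    have hz : ∀ k, a' (Sum.inr k) = 0 := Fintype.linearIndependent_iff.mp bM.linearIndependent _ hM0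
    refine (hre fun k => (ssp g).G (v k) - (if τ k then -1 else 1 : F) • v k).trans
      (Finset.sum_eq_zero fun k _ => ?_)
    rcases k with (k | k) | k
    · simp [v, τ, gKp _ (bp k).2]
    · simp [v, τ, gKm _ (bm k).2]
    · simp [hz k]

end Cfsg.Lib.SympComm
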