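import Cfsg.Agent.Classical.SympComm.Adm

/-!
A symplectic matrix whose upper left block is admissible is a commutator.
-/

set_option autoImplicit false
set_option linter.unusedSectionVars false

open Matrix

namespace Cfsg.Lib.SympComm

universe u

variable {F : Type u} [Field F] {ι : Type} [Fintype ι] [DecidableEq ι]

local notation "Sp" => Matrix.symplecticGroup ι F

theorem mem_blocks (P Q R S : Matrix ι ι F) :
    fromBlocks P Q R S ∈ Sp ↔
      Q * Pᵀ = P * Qᵀ ∧ Q * Rᵀ - P * Sᵀ = -1 ∧ S * Pᵀ - R * Qᵀ = 1 ∧ S * Rᵀ = R * Sᵀ := by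
  rw [SymplecticGroup.mem_iff, Matrix.J, fromBlocks_transpose, fromBlocks_multiply, fromBlocks_multiply,
    fromBlocks_inj]
  simp only [mul_zero, zero_add, mul_one, add_zero, mul_neg, neg_mul]
  rw [← sub_eq_add_neg, ← sub_eq_add_neg, ← sub_eq_add_neg, ← sub_eq_add_neg, sub_eq_zero, sub_eq_zero]

theorem sym_blocks {g : ↥Sp} {P Q R S : Matrix ι ι F} (hg : (g : Matrix (ι ⊕ ι) (ι ⊕ ι) F) = fromBlocks P Q R S) :
    Pᵀ * R = Rᵀ * P := by
  have h := (SymplecticGroup.mem_iff'.1 g.2)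
  rw [hg, Matrix.J, fromBlocks_transpose, fromBlocks_multiply, fromBlocks_multiply, fromBlocks_inj] at h
  obtain ⟨h11, -, -, -⟩ := h
  simp only [mul_zero, zero_add, mul_one, add_zero, mul_neg, neg_mul] at h11
  rw [← sub_eq_add_neg, sub_eq_zero] at h11
  exact h11.symm

/-- The lower unipotent element. -/
def low (Y : Matrix ι ι F) (h : Yᵀ = Y) : ↥Sp :=
  ⟨fromBlocks 1 0 Y 1, by rw [mem_blocks]; simp [h]⟩

/-- The upper unipotent element. -/
def upp (X : Matrix ι ι F) (h : Xᵀ = X) : ↥Sp :=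
  ⟨fromBlocks 1 X 0 1, by rw [mem_blocks]; simp [h]⟩

/-- The Levi element. -/
def lev (P Pi : Matrix ι ι F) (h : P * Pi = 1) : ↥Sp :=
  ⟨fromBlocks P 0 0 Piᵀ, by
    rw [mem_blocks]
    have h1 : Piᵀ * Pᵀ = 1 := by rw [← transpose_mul, h, transpose_one]
    simp [h, h1]⟩

@[simp] theorem coe_low (Y : Matrix ι ι F) (h : Yᵀ = Y) :
    (low Y h : Matrix (ι ⊕ ι) (ι ⊕ ι) F) = fromBlocks 1 0 Y 1 := rfl

@[simp] theorem coe_upp (X : Matrix ι ι F) (h : Xᵀ = X) :
    (upp X h : Matrix (ι ⊕ ι) (ι ⊕ ι) F) = fromBlocks 1 X 0 1 := rfl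

@[simp] theorem coe_lev (P Pi : Matrix ι ι F) (h : P * Pi = 1) :
    (lev P Pi h : Matrix (ι ⊕ ι) (ι ⊕ ι) F) = fromBlocks P 0 0 Piᵀ := rfl

theorem lev_inv (P Pi : Matrix ι ι F) (h : P * Pi = 1) :
    (lev P Pi h)⁻¹ = lev Pi P (mul_eq_one_comm.mp h) := by
  refine inv_eq_of_mul_eq_one_right (Subtype.ext ?_)
  simp [fromBlocks_multiply, h, ← transpose_mul]

theorem hor_transpose (B : Matrix ι ι F) : ∀ l : List F, hor l Bᵀ = (hor l B)ᵀ
  | [] => by simp [hor]
  | a :: l => by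
    have hc : ∀ m : List F, hor m B * B = B * hor m B := by
      intro m
      induction m with
      | nil => simp [hor]
      | cons b m ih => simp [hor, add_mul, mul_add, Matrix.mul_assoc, ih]
    simp only [hor, hor_transpose B l, transpose_add, transpose_smul, transpose_one, ← transpose_mul, hc]

/-- An injective linear map of the symmetric matrices is onto. -/
theorem exists_sym [Finite F] (B : Matrix ι ι F) (hinj : ∀ X : Matrix ι ι F, B * X * Bᵀ = X → X = 0)
    {Z : Matrix ι ι F} (hZ : Zᵀ = Z) : ∃ Y : Matrix ι ι F, Yᵀ = Y ∧ B * Y * Bᵀ - Y = Z := by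
  let T : {Y : Matrix ι ι F // Yᵀ = Y} → {Y : Matrix ι ι F // Yᵀ = Y} := fun Y =>
    ⟨B * Y.1 * Bᵀ - Y.1, by
      rw [transpose_sub, transpose_mul, transpose_mul, transpose_transpose, Y.2, Matrix.mul_assoc]⟩
  have hT : Function.Injective T := fun Y Y' e => by
    have e' := congrArg Subtype.val e
    simp only [T] at e'
    refine Subtype.ext (sub_eq_zero.mp (hinj _ ?_))
    rw [Matrix.mul_sub, Matrix.sub_mul]
    linear_combination (norm := abel) e'
  obtain ⟨Y, hY⟩ := Finite.injective_iff_surjective.mp hT ⟨Z, hZ⟩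
  exact ⟨Y.1, Y.2, congrArg Subtype.val hY⟩

/-- A symplectic matrix with an admissible upper left block is a commutator. -/
theorem isComm_of_block [Finite F] {l : List F} (g : ↥Sp) {A Q R D : Matrix ι ι F}
    (hg : (g : Matrix (ι ⊕ ι) (ι ⊕ ι) F) = fromBlocks A Q R D) (hA : Adm l A) :
    ∃ a b : ↥Sp, g = a * b * a⁻¹ * b⁻¹ := by
  obtain ⟨B, Bi, S, Si, N, hB, hS, hBS, h0, hN⟩ := hA
  have hB' := mul_eq_one_comm.mp hB
  have hS' := mul_eq_one_comm.mp hS
  obtain ⟨Ai, hAiDef⟩ : ∃ Ai, Ai = S * B * Si * Bi := ⟨_, rfl⟩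
  have hAi : A * Ai = 1 := by
    simp only [hAiDef, ← hBS, Matrix.mul_assoc]
    simp only [← Matrix.mul_assoc Si S, ← Matrix.mul_assoc Bi B, ← Matrix.mul_assoc S Si, hB', hS', hS,
      Matrix.one_mul, hB]
  have hAi' := mul_eq_one_comm.mp hAi
  have hAT : Aiᵀ * Aᵀ = 1 := by rw [← transpose_mul, hAi, transpose_one]
  -- the lower and upper factors
  have hZ : (R * Ai)ᵀ = R * Ai := by
    have h := sym_blocks hg
    calc (R * Ai)ᵀ = Aiᵀ * Rᵀ * (A * Ai) := by rw [hAi, Matrix.mul_one, transpose_mul]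
      _ = Aiᵀ * (Rᵀ * A) * Ai := by simp only [Matrix.mul_assoc]
      _ = R * Ai := by rw [← h, ← Matrix.mul_assoc Aiᵀ Aᵀ, hAT, Matrix.one_mul]
  obtain ⟨hQA, -, hDA, -⟩ := (mem_blocks A Q R D).mp (hg ▸ g.2)
  have hX : (Ai * Q)ᵀ = Ai * Q := by
    calc (Ai * Q)ᵀ = (Ai * A) * Qᵀ * Aiᵀ := by rw [hAi', Matrix.one_mul, transpose_mul]
      _ = Ai * (A * Qᵀ) * Aiᵀ := by simp only [Matrix.mul_assoc]
      _ = Ai * Q := by
        rw [← hQA, ← Matrix.mul_assoc Ai Q, Matrix.mul_assoc _ Aᵀ, ← transpose_mul, hAi',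
          transpose_one, Matrix.mul_one]
  have hfac : g = low (R * Ai) hZ * lev A Ai hAi * upp (Ai * Q) hX := by
    apply Subtype.ext
    simp only [Submonoid.coe_mul, coe_low, coe_lev, coe_upp, hg, fromBlocks_multiply, Matrix.one_mul,
      Matrix.mul_one, Matrix.zero_mul, Matrix.mul_zero, add_zero, zero_add, fromBlocks_inj,
      ← Matrix.mul_assoc A Ai, hAi, true_and]
    refine ⟨by rw [Matrix.mul_assoc, hAi', Matrix.mul_one], ?_⟩
    have : D = (D * Aᵀ) * Aiᵀ := by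
      rw [Matrix.mul_assoc, ← transpose_mul, hAi', transpose_one, Matrix.mul_one]
    rw [this, sub_eq_iff_eq_add.mp hDA, Matrix.add_mul, Matrix.one_mul, add_comm]
    congr 1
    calc R * Qᵀ * Aiᵀ = R * (Ai * Q)ᵀ := by rw [transpose_mul, Matrix.mul_assoc]
      _ = R * Ai * A * (Ai * Q) := by rw [hX, Matrix.mul_assoc R Ai A, hAi', Matrix.mul_one]
  -- the two conjugations
  have injB : ∀ X : Matrix ι ι F, B * X * Bᵀ = X → X = 0 := fun X => Adm.injective hB h0 hN
  have injBT : ∀ X : Matrix ι ι F, Bᵀ * X * Bᵀᵀ = X → X = 0 := fun X =>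
    Adm.injective (l := l) (Bi := Biᵀ) (N := Nᵀ) (by rw [← transpose_mul, hB', transpose_one])
      (by rw [hor_transpose, h0, transpose_zero])
      (by rw [hor_transpose, ← transpose_mul, mul_eq_one_comm.mp hN, transpose_one])
  obtain ⟨Y', hY', eY'⟩ := exists_sym Bᵀ injBT (Z := Bᵀ * (R * Ai) * B) (by
    rw [transpose_mul, transpose_mul, transpose_transpose, hZ]; simp only [Matrix.mul_assoc])
  obtain ⟨Y, hY, eY⟩ := exists_sym B injB (Z := Si * (Ai * Q) * Siᵀ) (by
    rw [transpose_mul, transpose_mul, transpose_transpose, hX]; simp only [Matrix.mul_assoc])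
  have hY'n : (-Y')ᵀ = -Y' := by rw [transpose_neg, hY']
  have hYn : (-Y)ᵀ = -Y := by rw [transpose_neg, hY]
  rw [transpose_transpose] at eY'
  have eY2 : Y' - Biᵀ * Y' * Bi = R * Ai := by
    have h := congrArg (fun M => Biᵀ * M * Bi) eY'
    simp only [Matrix.mul_sub, Matrix.sub_mul] at h
    have e1 : ∀ M : Matrix ι ι F, Biᵀ * (Bᵀ * M * B) * Bi = M := fun M => by
      calc Biᵀ * (Bᵀ * M * B) * Bi = (Biᵀ * Bᵀ) * M * (B * Bi) := by simp only [Matrix.mul_assoc]
        _ = M := by rw [← transpose_mul, hB, transpose_one, Matrix.one_mul, Matrix.mul_one]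
    rwa [e1, e1] at h
  have hlow : (low Y' hY' : ↥Sp) * lev B Bi hB * (low Y' hY')⁻¹ = low (R * Ai) hZ * lev B Bi hB := by
    rw [mul_inv_eq_iff_eq_mul]
    apply Subtype.ext
    simp only [Submonoid.coe_mul, coe_low, coe_lev, fromBlocks_multiply, Matrix.one_mul, Matrix.mul_one,
      Matrix.zero_mul, Matrix.mul_zero, add_zero, zero_add, fromBlocks_inj, true_and, and_true]
    rw [← eY2, Matrix.sub_mul, Matrix.mul_assoc _ Bi B, hB', Matrix.mul_one, sub_add_cancel]
  have hupp : (upp Y hY : ↥Sp) * lev Bi B hB' * (upp Y hY)⁻¹ = lev Bi B hB' * upp (Si * (Ai * Q) * Siᵀ)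
      (by rw [transpose_mul, transpose_mul, transpose_transpose, hX]; simp only [Matrix.mul_assoc]) := by
    rw [mul_inv_eq_iff_eq_mul]
    apply Subtype.ext
    simp only [Submonoid.coe_mul, coe_upp, coe_lev, fromBlocks_multiply, Matrix.one_mul, Matrix.mul_one,
      Matrix.zero_mul, Matrix.mul_zero, add_zero, zero_add, fromBlocks_inj, true_and, and_true]
    rw [← eY, ← Matrix.mul_add, add_sub_cancel, ← Matrix.mul_assoc, ← Matrix.mul_assoc, hB', Matrix.one_mul]
  let d : ↥Sp := lev S Si hS * upp Y hY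
  have hd : d * (lev B Bi hB)⁻¹ * d⁻¹ =
      lev (S * Bi * Si) (S * B * Si)
        (by simp only [Matrix.mul_assoc]; simp only [← Matrix.mul_assoc Si S, ← Matrix.mul_assoc Bi B, hS',
          hB', Matrix.one_mul, hS]) * upp (Ai * Q) hX := by
    rw [lev_inv, show d * lev Bi B (mul_eq_one_comm.mp hB) * d⁻¹ =
      lev S Si hS * (upp Y hY * lev Bi B hB' * (upp Y hY)⁻¹) * (lev S Si hS)⁻¹ by simp only [d]; group,
      hupp, lev_inv]
    apply Subtype.ext
    simp only [Submonoid.coe_mul, coe_upp, coe_lev, fromBlocks_multiply, Matrix.one_mul, Matrix.mul_one,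
      Matrix.zero_mul, Matrix.mul_zero, add_zero, zero_add, fromBlocks_inj, transpose_mul, true_and]
    simp only [Matrix.mul_assoc, and_true]
    rw [← transpose_mul S Si, hS, transpose_one, Matrix.mul_one]
  have hc : g = low Y' hY' * lev B Bi hB * (low Y' hY')⁻¹ * (d * (lev B Bi hB)⁻¹ * d⁻¹) := by
    rw [hd, hlow, hfac]
    simp only [mul_assoc]
    congr 1
    rw [← mul_assoc]
    congr 1
    apply Subtype.ext
    simp only [Submonoid.coe_mul, coe_lev, fromBlocks_multiply, Matrix.zero_mul, Matrix.mul_zero, add_zero,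
      zero_add, fromBlocks_inj, true_and, ← transpose_mul, hAiDef, ← hBS, Matrix.mul_assoc, and_self]
  refine ⟨low Y' hY' * lev B Bi hB * (low Y' hY')⁻¹, d * (low Y' hY')⁻¹, ?_⟩
  rw [hc]
  group

end Cfsg.Lib.SympComm
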