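import Mathlib

/-!
The commutators needed in `Sp_4` over the field of three elements.
-/

set_option autoImplicit false

open Matrix

namespace Cfsg.Lib.SympComm

/-- The standard form in dimension four. -/
def J43 : Matrix (Fin 4) (Fin 4) (ZMod 3) := !![0, 0, 2, 0; 0, 0, 0, 2; 1, 0, 0, 0; 0, 1, 0, 0]

/-- The pairs of elements of `Sp_4(3)`. -/
def table43 : List (Matrix (Fin 4) (Fin 4) (ZMod 3) × Matrix (Fin 4) (Fin 4) (ZMod 3)) :=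
  [ (!![1, 1, 2, 0; 1, 0, 1, 1; 0, 2, 2, 2; 2, 1, 1, 0],
      !![2, 1, 0, 2; 1, 1, 0, 2; 1, 0, 1, 2; 0, 1, 2, 1]),
    (!![1, 1, 2, 2; 1, 2, 2, 1; 0, 1, 2, 1; 2, 0, 0, 1],
      !![2, 2, 1, 2; 0, 2, 0, 2; 1, 1, 1, 1; 0, 1, 1, 0]),
    (!![0, 2, 0, 2; 1, 1, 2, 1; 2, 1, 2, 0; 1, 2, 0, 2],
      !![1, 2, 2, 2; 0, 1, 0, 1; 1, 1, 0, 1; 2, 0, 2, 1]),
    (!![1, 2, 2, 0; 2, 1, 0, 2; 0, 1, 2, 1; 0, 1, 1, 1],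
      !![2, 1, 2, 1; 0, 2, 0, 2; 0, 1, 2, 1; 1, 1, 0, 0]),
    (!![2, 1, 1, 0; 0, 1, 2, 2; 1, 1, 2, 1; 1, 2, 0, 1],
      !![0, 2, 2, 1; 1, 1, 2, 0; 2, 1, 1, 0; 2, 0, 0, 2]),
    (!![1, 1, 2, 2; 1, 1, 1, 0; 0, 1, 0, 0; 2, 1, 0, 0],
      !![1, 2, 1, 2; 2, 2, 2, 2; 2, 0, 1, 1; 2, 1, 0, 2]),
    (!![0, 0, 2, 2; 2, 1, 0, 2; 2, 2, 0, 1; 1, 2, 1, 0],
      !![2, 0, 0, 2; 1, 0, 0, 2; 2, 2, 1, 0; 0, 2, 2, 1]),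
    (!![2, 1, 1, 0; 1, 0, 1, 2; 0, 0, 0, 1; 0, 0, 1, 1],
      !![1, 0, 1, 1; 1, 2, 0, 0; 1, 0, 2, 2; 1, 2, 0, 2]),
    (!![1, 0, 0, 0; 2, 0, 0, 1; 1, 2, 1, 1; 0, 2, 0, 1],
      !![1, 2, 0, 2; 1, 2, 2, 1; 2, 0, 0, 2; 2, 2, 2, 1]),
    (!![0, 0, 1, 1; 1, 2, 1, 2; 1, 1, 1, 1; 2, 1, 1, 2],
      !![1, 0, 2, 0; 2, 1, 1, 1; 1, 2, 0, 0; 0, 2, 0, 0]),
    (!![2, 1, 2, 0; 2, 1, 0, 1; 1, 0, 0, 0; 0, 2, 0, 0],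
      !![0, 0, 0, 1; 0, 0, 2, 0; 0, 2, 2, 2; 1, 0, 0, 1]),
    (!![1, 1, 2, 1; 2, 2, 0, 0; 1, 0, 0, 0; 0, 2, 0, 2],
      !![0, 1, 1, 1; 2, 1, 0, 0; 1, 0, 2, 2; 2, 0, 1, 2]),
    (!![0, 1, 0, 0; 0, 2, 1, 0; 2, 2, 2, 1; 2, 1, 1, 0],
      !![2, 0, 0, 0; 0, 1, 0, 0; 1, 1, 2, 0; 2, 1, 0, 1]),
    (!![2, 1, 0, 2; 2, 1, 2, 1; 1, 1, 2, 2; 0, 1, 0, 2],
      !![2, 1, 1, 2; 1, 2, 1, 0; 1, 0, 2, 1; 0, 1, 1, 0]),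
    (!![0, 2, 0, 2; 2, 0, 1, 0; 0, 1, 0, 0; 0, 0, 2, 0],
      !![1, 0, 1, 0; 0, 2, 0, 0; 0, 0, 1, 0; 0, 1, 0, 2]),
    (!![0, 2, 2, 0; 1, 1, 1, 1; 1, 0, 1, 0; 1, 0, 1, 1],
      !![2, 2, 0, 0; 1, 2, 2, 1; 1, 1, 1, 1; 0, 0, 2, 1]),
    (!![1, 0, 2, 1; 2, 2, 0, 1; 0, 0, 1, 2; 2, 2, 0, 0],
      !![2, 1, 1, 2; 2, 0, 1, 0; 0, 2, 0, 2; 2, 1, 0, 1]),
    (!![2, 0, 2, 1; 1, 0, 1, 1; 1, 1, 2, 0; 0, 1, 2, 1],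
      !![1, 2, 0, 0; 2, 0, 0, 0; 2, 1, 0, 2; 2, 0, 2, 2]),
    (!![0, 1, 2, 2; 1, 2, 0, 0; 1, 2, 1, 1; 2, 2, 0, 2],
      !![0, 1, 2, 1; 1, 1, 1, 0; 0, 0, 2, 1; 0, 0, 1, 0]),
    (!![2, 1, 2, 2; 1, 1, 2, 0; 0, 2, 2, 1; 0, 2, 0, 1],
      !![2, 0, 0, 1; 2, 1, 2, 1; 0, 1, 1, 2; 1, 1, 2, 0]),
    (!![0, 2, 2, 2; 2, 1, 0, 0; 0, 2, 1, 1; 0, 0, 2, 0],
      !![2, 2, 2, 2; 0, 2, 1, 1; 1, 1, 0, 1; 0, 1, 0, 1]),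
    (!![0, 2, 0, 0; 2, 2, 1, 0; 0, 0, 1, 2; 0, 0, 2, 0],
      !![2, 1, 2, 0; 2, 0, 0, 1; 2, 0, 0, 2; 2, 1, 1, 2]),
    (!![2, 0, 1, 0; 1, 0, 2, 2; 1, 1, 1, 2; 1, 1, 2, 1],
      !![2, 1, 1, 0; 1, 1, 2, 0; 2, 0, 2, 2; 1, 0, 1, 2]),
    (!![2, 0, 2, 2; 0, 0, 0, 2; 2, 0, 1, 0; 1, 1, 2, 0],
      !![1, 1, 0, 1; 2, 1, 2, 2; 1, 1, 2, 0; 1, 2, 2, 0])]

theorem sp43 : ∀ a b c d : ZMod 3, a * d - b * c = 1 → ∃ AB ∈ table43,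
    AB.1 * J43 * AB.1ᵀ = J43 ∧ AB.2 * J43 * AB.2ᵀ = J43 ∧
      !![2, 0, 0, 0; 0, a, 0, b; 0, 0, 2, 0; 0, c, 0, d] * AB.2 * AB.1 = AB.1 * AB.2 := by
  decide +kernel

end Cfsg.Lib.SympComm
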