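import Cfsg.Agent.Classical.SympComm.Levi
import Cfsg.Agent.Classical.SympComm.Frame
import Cfsg.Agent.Classical.SympComm.Sp43
import Cfsg.Agent.Classical.Symp.Decomp

/-!
Every element of a symplectic group over a finite field is a commutator, apart from three small
groups.
-/

set_option autoImplicit false
set_option linter.unusedSectionVars false

open Matrix Module

namespace Cfsg.Lib.SympComm

universe u

variable {F : Type u} [Field F]

/-- Being a commutator. -/
def IsComm {G : Type*} [Group G] (g : G) : Prop := ∃ a b, g = a * b * a⁻¹ * b⁻¹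

theorem IsComm.map {G H : Type*} [Group G] [Group H] (f : G →* H) {g : G} (h : IsComm g) :
    IsComm (f g) := by
  obtain ⟨a, b, rfl⟩ := h
  exact ⟨f a, f b, by simp⟩

theorem IsComm.of_eq {G : Type*} [Group G] {g a b : G} (h : g * b * a = a * b) : IsComm g :=
  ⟨a, b, by rw [← h]; group⟩

theorem IsComm.of_conj {G : Type*} [Group G] {g p : G} (h : IsComm (p⁻¹ * g * p)) : IsComm g := by
  have := h.map (MulAut.conj p).toMonoidHom
  simpa [MulAut.conj_apply, mul_assoc] using this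

section reidx

variable {ι κ : Type} [Fintype ι] [DecidableEq ι] [Fintype κ] [DecidableEq κ]

theorem J_submatrix (e : ι ≃ κ) :
    (Matrix.J κ F).submatrix (e.sumCongr e) (e.sumCongr e) = Matrix.J ι F := by
  ext i j
  rcases i with i | i <;> rcases j with j | j <;>
    simp [Matrix.J, Matrix.one_apply, e.injective.eq_iff]

/-- Renaming the index set. -/
def reidx (e : ι ≃ κ) : Matrix.symplecticGroup κ F →* Matrix.symplecticGroup ι F where
  toFun g := ⟨(g : Matrix (κ ⊕ κ) (κ ⊕ κ) F).submatrix (e.sumCongr e) (e.sumCongr e), by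
    rw [SymplecticGroup.mem_iff, ← J_submatrix e, Matrix.transpose_submatrix, Matrix.submatrix_mul_equiv,
      Matrix.submatrix_mul_equiv, SymplecticGroup.mem_iff.mp g.2]⟩
  map_one' := Subtype.ext (by simp)
  map_mul' a b := Subtype.ext (by simp [Matrix.submatrix_mul_equiv])

theorem reidx_cancel (e : ι ≃ κ) (g : Matrix.symplecticGroup κ F) : reidx e.symm (reidx e g) = g := by
  apply Subtype.ext
  ext i j
  rcases i with i | i <;> rcases j with j | j <;> simp [reidx]

/-- Block sum of two matrices. -/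
def bsum (A : Matrix (ι ⊕ ι) (ι ⊕ ι) F) (B : Matrix (κ ⊕ κ) (κ ⊕ κ) F) :
    Matrix ((ι ⊕ κ) ⊕ (ι ⊕ κ)) ((ι ⊕ κ) ⊕ (ι ⊕ κ)) F :=
  (fromBlocks A 0 0 B).submatrix (Equiv.sumSumSumComm ι κ ι κ) (Equiv.sumSumSumComm ι κ ι κ)

theorem bsum_mul (A A' : Matrix (ι ⊕ ι) (ι ⊕ ι) F) (B B' : Matrix (κ ⊕ κ) (κ ⊕ κ) F) :
    bsum A B * bsum A' B' = bsum (A * A') (B * B') := by
  simp [bsum, Matrix.submatrix_mul_equiv, fromBlocks_multiply]

theorem bsum_J : bsum (Matrix.J ι F) (Matrix.J κ F) = Matrix.J (ι ⊕ κ) F := by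
  ext i j
  rcases i with (i | i) | (i | i) <;> rcases j with (j | j) | (j | j) <;>
    simp [bsum, Matrix.J, Matrix.one_apply]

theorem bsum_transpose (A : Matrix (ι ⊕ ι) (ι ⊕ ι) F) (B : Matrix (κ ⊕ κ) (κ ⊕ κ) F) :
    (bsum A B)ᵀ = bsum Aᵀ Bᵀ := by
  simp [bsum, Matrix.transpose_submatrix, fromBlocks_transpose]

/-- The embedding of a product of two symplectic groups. -/
def emb : Matrix.symplecticGroup ι F × Matrix.symplecticGroup κ F →* Matrix.symplecticGroup (ι ⊕ κ) F where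
  toFun g := ⟨bsum (g.1 : Matrix (ι ⊕ ι) (ι ⊕ ι) F) (g.2 : Matrix (κ ⊕ κ) (κ ⊕ κ) F), by
    rw [SymplecticGroup.mem_iff, ← bsum_J, bsum_transpose, bsum_mul, bsum_mul,
      SymplecticGroup.mem_iff.mp g.1.2, SymplecticGroup.mem_iff.mp g.2.2]⟩
  map_one' := Subtype.ext (by simp [bsum])
  map_mul' a b := Subtype.ext (by simp [bsum_mul])

theorem mem_right {A : Matrix (ι ⊕ ι) (ι ⊕ ι) F} {B : Matrix (κ ⊕ κ) (κ ⊕ κ) F}
    (h : bsum A B ∈ Matrix.symplecticGroup (ι ⊕ κ) F) : B ∈ Matrix.symplecticGroup κ F := by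
  rw [SymplecticGroup.mem_iff, ← bsum_J, bsum_transpose, bsum_mul, bsum_mul] at h
  rw [SymplecticGroup.mem_iff]
  ext i j
  have := congrFun (congrFun h ((Equiv.sumSumSumComm ι κ ι κ).symm (Sum.inr i)))
    ((Equiv.sumSumSumComm ι κ ι κ).symm (Sum.inr j))
  simp only [bsum, Matrix.submatrix_apply, Equiv.apply_symm_apply, fromBlocks_apply₂₂] at this
  exact this

end reidx

theorem comm_prod {G H : Type*} [Group G] [Group H] {g : G} {h : H} (hg : IsComm g) (hh : IsComm h) :
    IsComm (g, h) := by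
  obtain ⟨a, b, rfl⟩ := hg
  obtain ⟨c, d, rfl⟩ := hh
  exact ⟨(a, c), (b, d), rfl⟩

/-- Minus the identity. -/
def negOne (F : Type u) [Field F] : Matrix.symplecticGroup (Fin 1) F :=
  ⟨-1, by rw [SymplecticGroup.mem_iff]; simp⟩

theorem negOne_comm [Finite F] : IsComm (negOne F) := by
  have : NeZero (ringChar F) := ⟨CharP.char_ne_zero_of_finite F _⟩
  obtain ⟨x, y, hxy⟩ := CharP.sq_add_sq F (ringChar F) (-1)
  replace hxy : (x : F) * x + (y : F) * y = -1 := by
    have h := hxy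
    push_cast at h
    linear_combination h
  let a : Matrix.symplecticGroup (Fin 1) F := ⟨fromBlocks 0 1 (-1) 0, by
    rw [mem_blocks]; simp⟩
  let b : Matrix.symplecticGroup (Fin 1) F :=
    ⟨fromBlocks ((x : F) • 1) ((y : F) • 1) ((y : F) • 1) ((-(x : F)) • 1), by
      rw [mem_blocks]
      refine ⟨?_, ?_, ?_, ?_⟩ <;> ext i j <;> fin_cases i <;> fin_cases j <;>
        simp <;> (first | linear_combination hxy | linear_combination -hxy | ring)⟩
  refine IsComm.of_eq (a := a) (b := b) (Subtype.ext ?_)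
  simp [a, b, negOne, fromBlocks_multiply, fromBlocks_neg]

/-- Row indices for a split. -/
abbrev SI (k : ℕ) : Type := (Fin 1 ⊕ Fin k) ⊕ (Fin 1 ⊕ Fin k)

theorem split_pair {k : ℕ} (g : Matrix.symplecticGroup (Fin 1 ⊕ Fin k) F)
    {x y : (Fin 1 ⊕ Fin k) ⊕ (Fin 1 ⊕ Fin k) → F}
    (hx : (g : Matrix _ _ F) *ᵥ x = -x) (hy : (g : Matrix _ _ F) *ᵥ y = -y)
    (hxy : sform (Fin 1 ⊕ Fin k) F x y ≠ 0) :
    ∃ (P : Matrix.symplecticGroup (Fin 1 ⊕ Fin k) F) (g' : Matrix.symplecticGroup (Fin k) F),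
      P⁻¹ * g * P = emb (negOne F, g') := by
  classical
  let ω := sform (Fin 1 ⊕ Fin k) F
  obtain ⟨u, hu, hvu⟩ : ∃ u, (g : Matrix _ _ F) *ᵥ u = -u ∧ ω x u = 1 := by
    refine ⟨(ω x y)⁻¹ • y, by rw [Matrix.mulVec_smul, hy, smul_neg], ?_⟩
    rw [map_smul, smul_eq_mul]
    exact inv_mul_cancel₀ hxy
  have hA : ω.IsAlt := sform_alt
  let U := Submodule.span F ({x, u} : Set ((Fin 1 ⊕ Fin k) ⊕ (Fin 1 ⊕ Fin k) → F))
  let W := ω.orthogonal U
  have hc : IsCompl U W := LinearMap.BilinForm.isCompl_orthogonal_of_restrict_nondegenerate hA.isRefl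
    (Cfsg.Lib.Classical.restrict_hyperbolic_nondegenerate hA hvu)
  have hWn : (ω.restrict W).Nondegenerate := by
    refine LinearMap.BilinForm.nondegenerate_restrict_of_disjoint_orthogonal ω hA.isRefl ?_
    rw [LinearMap.BilinForm.orthogonal_orthogonal sform_nd hA.isRefl]
    exact hc.disjoint.symm
  obtain ⟨m', b, hm', h1, h2, h3⟩ :=
    Cfsg.Lib.Classical.exists_symplectic_basis_nondegenerate (B := ω.restrict W) (fun z => hA z) hWn
  have hm : m' = k := by
    have e1 := Submodule.finrank_add_eq_of_isCompl hc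
    rw [Cfsg.Lib.Classical.finrank_hyperbolic_span hA hvu, hm', Module.finrank_fintype_fun_eq_card,
      Fintype.card_sum, Fintype.card_sum, Fintype.card_fin, Fintype.card_fin] at e1
    omega
  subst hm
  let c : (Fin 1 ⊕ Fin m') ⊕ (Fin 1 ⊕ Fin m') → (Fin 1 ⊕ Fin m') ⊕ (Fin 1 ⊕ Fin m') → F :=
    Sum.elim (Sum.elim (fun _ => x) fun i => (b (Sum.inl i) : _ → F))
      (Sum.elim (fun _ => u) fun i => (b (Sum.inr i) : _ → F))
  have oU : ∀ (z : W), ∀ p ∈ U, ω p z = 0 ∧ ω z p = 0 := fun z p hp =>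
    ⟨z.2 p hp, hA.isRefl _ _ (z.2 p hp)⟩
  have hxU : x ∈ U := Submodule.subset_span (by simp)
  have huU : u ∈ U := Submodule.subset_span (by simp)
  have hux : ω u x = -1 := by rw [← hA.neg_eq, hvu]
  let P : Matrix.symplecticGroup (Fin 1 ⊕ Fin m') F := ⟨Matrix.of fun r i => c i r, by
    refine cols_mem c ?_ ?_ ?_ <;> rintro (i | i) (j | j)
    · exact hA x
    · exact (oU _ x hxU).1
    · exact (oU _ x hxU).2
    · exact h2 i j
    · exact hA u
    · exact (oU _ u huU).1
    · exact (oU _ u huU).2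
    · exact h3 i j
    · simpa [c, Subsingleton.elim i j] using hvu
    · simpa [c] using (oU _ x hxU).1
    · simpa [c] using (oU _ u huU).2
    · simpa [c] using h1 i j⟩
  generalize hQ : P⁻¹ * g * P = Q
  -- the plane columns
  have hcol : ∀ (i : (Fin 1 ⊕ Fin m') ⊕ (Fin 1 ⊕ Fin m')) (j : Fin 1),
      ((Q : Matrix (SI m') (SI m') F)
          i (Sum.inl (Sum.inl j)) = -(1 : Matrix (SI m') (SI m') F) i (Sum.inl (Sum.inl j))) ∧
      ((Q : Matrix (SI m') (SI m') F)
          i (Sum.inr (Sum.inl j)) = -(1 : Matrix (SI m') (SI m') F) i (Sum.inr (Sum.inl j))) := by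
    intro i j
    have key : ∀ l, (g : Matrix (SI m') (SI m') F) *ᵥ c l = -c l →
        ∀ i', (-Matrix.J (Fin 1 ⊕ Fin m') F * (Q : Matrix (SI m') (SI m') F)) i' l =
          (-Matrix.J (Fin 1 ⊕ Fin m') F * (-1 : Matrix (SI m') (SI m') F)) i' l := by
      intro l hl i'
      have h0 := conj_entries P g i' l
      rw [hQ, show (fun r => (P : Matrix (SI m') (SI m') F) r l) = c l from rfl, hl, map_neg] at h0
      rw [h0, Matrix.mul_neg, Matrix.neg_apply, Matrix.mul_one]
      congr 1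
      have h1' := sform_cols (P : Matrix (SI m') (SI m') F) (P : Matrix (SI m') (SI m') F) i' l
      rw [Matrix.mul_neg, Matrix.neg_mul, SymplecticGroup.mem_iff'.mp P.2] at h1'
      exact h1'.symm
    have cancel : ∀ l, (g : Matrix (SI m') (SI m') F) *ᵥ c l = -c l →
        (Q : Matrix (SI m') (SI m') F) i l = (-1 : Matrix (SI m') (SI m') F) i l := by
      intro l hl
      rcases i with i | i
      · have := key l hl (Sum.inr i)
        rw [(negJ_entries _ i l).2, (negJ_entries _ i l).2] at this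
        exact neg_injective this
      · have := key l hl (Sum.inl i)
        rwa [(negJ_entries _ i l).1, (negJ_entries _ i l).1] at this
    exact ⟨(cancel (Sum.inl (Sum.inl j)) hx).trans (Matrix.neg_apply _ _ _),
      (cancel (Sum.inr (Sum.inl j)) hu).trans (Matrix.neg_apply _ _ _)⟩
  -- the plane rows
  have hrow : ∀ (i : Fin 1) (j : Fin m') (l : (Fin 1 ⊕ Fin m') ⊕ (Fin 1 ⊕ Fin m')),
      (l = Sum.inl (Sum.inr j) ∨ l = Sum.inr (Sum.inr j)) →
      (Q : Matrix (SI m') (SI m') F) (Sum.inl (Sum.inl i)) l = 0 ∧ (Q : Matrix (SI m') (SI m') F) (Sum.inr (Sum.inl i)) l = 0 := by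
    intro i j l hl
    have hz : ∀ p ∈ U, (g : Matrix (SI m') (SI m') F) *ᵥ p = -p → ω p ((g : Matrix (SI m') (SI m') F) *ᵥ c l) = 0 := by
      intro p hp hgp
      have e1 : ω ((g : Matrix (SI m') (SI m') F) *ᵥ p) ((g : Matrix (SI m') (SI m') F) *ᵥ c l) = ω p (c l) := (ssp g).pres p (c l)
      have e2 : ω p (c l) = 0 := by
        obtain rfl | rfl := hl
        · exact (oU _ p hp).1
        · exact (oU _ p hp).1
      rw [hgp, e2, map_neg, LinearMap.neg_apply, neg_eq_zero] at e1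
      exact e1
    constructor
    · have h0 := conj_entries P g (Sum.inr (Sum.inl i)) l
      rw [hQ, (negJ_entries _ (Sum.inl i) l).2] at h0
      exact neg_eq_zero.mp (h0.trans (hz u huU hu))
    · have h0 := conj_entries P g (Sum.inl (Sum.inl i)) l
      rw [hQ, (negJ_entries _ (Sum.inl i) l).1] at h0
      exact h0.trans (hz x hxU hx)
  let r : Fin m' ⊕ Fin m' → (Fin 1 ⊕ Fin m') ⊕ (Fin 1 ⊕ Fin m') :=
    Sum.map Sum.inr Sum.inr
  have hQeq : (Q : Matrix (SI m') (SI m') F) =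
      bsum (ι := Fin 1) (κ := Fin m') (-1)
        ((Q : Matrix (SI m') (SI m') F).submatrix
          r r) := by
    ext i j
    rcases j with (j | j) | (j | j)
    · rw [(hcol i j).1]
      rcases i with (i | i) | (i | i) <;> simp [bsum, Matrix.one_apply]
    · rcases i with (i | i) | (i | i)
      · rw [(hrow i j _ (Or.inl rfl)).1]; simp [bsum]
      · simp [bsum, r]
      · rw [(hrow i j _ (Or.inl rfl)).2]; simp [bsum]
      · simp [bsum, r]
    · rw [(hcol i j).2]
      rcases i with (i | i) | (i | i) <;> simp [bsum, Matrix.one_apply]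
    · rcases i with (i | i) | (i | i)
      · rw [(hrow i j _ (Or.inr rfl)).1]; simp [bsum]
      · simp [bsum, r]
      · rw [(hrow i j _ (Or.inr rfl)).2]; simp [bsum]
      · simp [bsum, r]
  exact ⟨P, ⟨_, mem_right (hQeq ▸ Q.2)⟩, hQ.trans (Subtype.ext hQeq)⟩

theorem two_eq_neg_one : (2 : ZMod 3) = -1 := by decide

theorem base43 [Fintype F] (hq : Fintype.card F = 3) (g' : Matrix.symplecticGroup (Fin 1) F) :
    IsComm (emb (negOne F, g')) := by
  have : Fact (Nat.Prime 3) := ⟨Nat.prime_three⟩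
  have : CharP F 3 := charP_of_card_eq_prime hq
  let φ : ZMod 3 →+* F := ZMod.castHom dvd_rfl F
  have hφ : Function.Bijective φ := (Fintype.bijective_iff_injective_and_card φ).mpr
    ⟨ZMod.castHom_injective F, by rw [ZMod.card, hq]⟩
  obtain ⟨a, ha⟩ := hφ.2 ((g' : Matrix (Fin 1 ⊕ Fin 1) (Fin 1 ⊕ Fin 1) F) (Sum.inl 0) (Sum.inl 0))
  obtain ⟨b, hb⟩ := hφ.2 ((g' : Matrix (Fin 1 ⊕ Fin 1) (Fin 1 ⊕ Fin 1) F) (Sum.inl 0) (Sum.inr 0))
  obtain ⟨c, hc⟩ := hφ.2 ((g' : Matrix (Fin 1 ⊕ Fin 1) (Fin 1 ⊕ Fin 1) F) (Sum.inr 0) (Sum.inl 0))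
  obtain ⟨d, hd⟩ := hφ.2 ((g' : Matrix (Fin 1 ⊕ Fin 1) (Fin 1 ⊕ Fin 1) F) (Sum.inr 0) (Sum.inr 0))
  have hdet : a * d - b * c = 1 := by
    apply hφ.1
    have h := SymplecticGroup.mem_iff.mp g'.2
    have h01 := congrFun (congrFun h (Sum.inl 0)) (Sum.inr 0)
    simp [Matrix.mul_apply, Matrix.J, Fintype.sum_sum_type, ← ha, ← hb, ← hc, ← hd] at h01
    rw [map_sub, map_mul, map_mul, map_one]
    linear_combination -h01
  obtain ⟨⟨A, B⟩, -, hA, hB, hAB⟩ := sp43 a b c d hdet
  let ε : (Fin 1 ⊕ Fin 1) ⊕ (Fin 1 ⊕ Fin 1) ≃ Fin 4 :=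
    ((finSumFinEquiv).sumCongr finSumFinEquiv).trans finSumFinEquiv
  have hJ : (J43.map φ).submatrix ε ε = Matrix.J (Fin 1 ⊕ Fin 1) F := by
    ext i j
    rcases i with (i | i) | (i | i) <;> rcases j with (j | j) | (j | j) <;> fin_cases i <;> fin_cases j <;>
      simp [ε, J43, Matrix.J, finSumFinEquiv]
    all_goals rw [two_eq_neg_one, map_neg, map_one]
  have lift : ∀ M : Matrix (Fin 4) (Fin 4) (ZMod 3), M * J43 * Mᵀ = J43 →
      (M.map φ).submatrix ε ε ∈ Matrix.symplecticGroup (Fin 1 ⊕ Fin 1) F := by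
    intro M hM
    rw [SymplecticGroup.mem_iff, ← hJ, Matrix.transpose_submatrix, Matrix.submatrix_mul_equiv,
      Matrix.submatrix_mul_equiv, ← Matrix.transpose_map, ← Matrix.map_mul, ← Matrix.map_mul, hM]
  refine IsComm.of_eq (a := ⟨_, lift A hA⟩) (b := ⟨_, lift B hB⟩) (Subtype.ext ?_)
  have ht : bsum (-1) (g' : Matrix (Fin 1 ⊕ Fin 1) (Fin 1 ⊕ Fin 1) F) =
      ((!![2, 0, 0, 0; 0, a, 0, b; 0, 0, 2, 0; 0, c, 0, d] : Matrix (Fin 4) (Fin 4) (ZMod 3)).map φ).submatrix
        ε ε := by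
    ext i j
    rcases i with (i | i) | (i | i) <;> rcases j with (j | j) | (j | j) <;> fin_cases i <;> fin_cases j <;>
      simp [ε, bsum, finSumFinEquiv, ha, hb, hc, hd]
    all_goals rw [two_eq_neg_one, map_neg, map_one]
  change bsum (-1) (g' : Matrix (Fin 1 ⊕ Fin 1) (Fin 1 ⊕ Fin 1) F) * (B.map φ).submatrix ε ε *
    (A.map φ).submatrix ε ε = (A.map φ).submatrix ε ε * (B.map φ).submatrix ε ε
  rw [ht, Matrix.submatrix_mul_equiv, Matrix.submatrix_mul_equiv, Matrix.submatrix_mul_equiv, ← Matrix.map_mul,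
    ← Matrix.map_mul, ← Matrix.map_mul, hAB]

/-- The generic case. -/
theorem generic [Fintype F] {ι : Type} [Fintype ι] [DecidableEq ι] (hm : 1 ≤ Fintype.card ι)
    (h1 : Fintype.card ι = 1 → 4 ≤ Fintype.card F) (h2 : Fintype.card ι = 2 → 3 ≤ Fintype.card F)
    (g : Matrix.symplecticGroup ι F)
    (hgen : (2 : F) ≠ 0 → ∀ x y : ι ⊕ ι → F, (g : Matrix (ι ⊕ ι) (ι ⊕ ι) F) *ᵥ x = -x →
      (g : Matrix (ι ⊕ ι) (ι ⊕ ι) F) *ᵥ y = -y → sform ι F x y = 0) : IsComm g := by
  classical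
  obtain ⟨P, σ, t, u, hσ, hcard, ht2, hP⟩ := exists_frame g hgen
  refine IsComm.of_conj (p := P) ?_
  suffices hl : ∃ l : List F, Has l (3 * t + u) (2 * t) by
    obtain ⟨l, hl⟩ := hl
    have hA : Adm l (sgn σ : Matrix ι ι F) := hl ι σ hcard hσ
    refine isComm_of_block (l := l) _ (Matrix.fromBlocks_toBlocks _).symm ?_
    convert hA using 1
    ext i j
    exact hP i j
  by_cases h20 : (2 : F) = 0
  · obtain rfl := ht2 h20
    by_cases hq : Fintype.card F = 2
    · have : Fact (Nat.Prime 2) := ⟨Nat.prime_two⟩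
      have : CharP F 2 := charP_of_card_eq_prime hq
      refine ⟨l2.map (ZMod.castHom (dvd_refl 2) F), ?_⟩
      simpa using has_two (ZMod.castHom (dvd_refl 2) F) u (by omega)
    · obtain ⟨μ, hμ⟩ : ∃ μ : F, μ ∉ ({0, 1} : Finset F) :=
        by
        by_contra hc
        simp only [not_exists, not_not] at hc
        have h : ({0, 1} : Finset F).card = Fintype.card F :=
          congrArg Finset.card (Finset.eq_univ_iff_forall.mpr hc)
        have := Finset.card_le_two (a := (0 : F)) (b := 1)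
        have := Fintype.one_lt_card (α := F)
        omega
      simp only [Finset.mem_insert, Finset.mem_singleton, not_or] at hμ
      refine ⟨[-μ, 1], ?_⟩
      have hc2 : μ * μ ≠ 1 := fun e => hμ.2 (by
        have : (μ - 1) * (μ - 1) = 0 := by linear_combination e - μ * h20 + h20
        exact sub_eq_zero.mp (mul_self_eq_zero.mp this))
      simpa using has_char_two hμ.1 hc2 u
  · by_cases hq : Fintype.card F = 3
    · have : Fact (Nat.Prime 3) := ⟨Nat.prime_three⟩
      have : CharP F 3 := charP_of_card_eq_prime hq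
      exact ⟨_, has_three (ZMod.castHom dvd_rfl F) (by omega)⟩
    · obtain ⟨a, ha⟩ : ∃ a : F, a ∉ ({0, 1, -1} : Finset F) :=
        by
        by_contra hc
        simp only [not_exists, not_not] at hc
        have h : ({0, 1, -1} : Finset F).card = Fintype.card F :=
          congrArg Finset.card (Finset.eq_univ_iff_forall.mpr hc)
        have := Finset.card_le_three (a := (0 : F)) (b := 1) (c := -1)
        have := Fintype.one_lt_card (α := F)
        have : Fintype.card F ≠ 2 := fun hq2 => h20 (by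
          have := FiniteField.cast_card_eq_zero F
          rw [hq2] at this
          exact_mod_cast this)
        omega
      simp only [Finset.mem_insert, Finset.mem_singleton, not_or] at ha
      obtain ⟨ha0, ha1, ha2⟩ := ha
      have ha' : a * a ≠ 1 := fun e => by
        obtain h | h := mul_self_eq_one_iff.mp e
        · exact ha1 h
        · exact ha2 h
      obtain ⟨c, hc, hc1, hc2⟩ : ∃ c : F, ¬ IsSquare c ∧ c ≠ 1 ∧ c ≠ -1 := by
        by_cases hneg : IsSquare (-1 : F)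
        · obtain ⟨c, hc⟩ := FiniteField.exists_nonsquare (F := F) (fun hr => h20 (by
            have : ((ringChar F : ℕ) : F) = 0 := ringChar.Nat.cast_ringChar
            rw [hr] at this
            exact_mod_cast this))
          exact ⟨c, hc, fun h => hc (h ▸ IsSquare.one), fun h => hc (h ▸ hneg)⟩
        · refine ⟨-(a * a), fun ⟨r, hr⟩ => hneg ⟨r / a, ?_⟩, fun h => hneg ⟨a, ?_⟩, fun h => ha' (neg_injective h)⟩
          · rw [div_mul_div_comm, ← hr, neg_div, div_self (mul_ne_zero ha0 ha0)]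
          · rw [← h, neg_neg]
      have hc0 : c ≠ 0 := fun h => hc (h ▸ IsSquare.zero)
      exact ⟨_, has_odd ha0 ha' hc0 (fun e => by
          obtain h | h := mul_self_eq_one_iff.mp e
          · exact hc1 h
          · exact hc2 h)
        (fun e => hc ⟨a, e.symm⟩)
        (fun e => hc ⟨a⁻¹, by field_simp; linear_combination e⟩) t u⟩

theorem step [Fintype F] (k : ℕ) (h1 : k + 1 = 1 → 4 ≤ Fintype.card F)
    (h2 : k + 1 = 2 → 3 ≤ Fintype.card F)
    (hrest : (2 : F) ≠ 0 → ∀ g' : Matrix.symplecticGroup (Fin k) F, IsComm (emb (negOne F, g')))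
    (g : Matrix.symplecticGroup (Fin (k + 1)) F) : IsComm g := by
  let e : Fin 1 ⊕ Fin k ≃ Fin (k + 1) := finSumFinEquiv.trans (finCongr (Nat.add_comm 1 k))
  rw [← reidx_cancel e g]
  refine IsComm.map _ ?_
  generalize reidx e g = g
  by_cases hgen : (2 : F) ≠ 0 → ∀ x y : (Fin 1 ⊕ Fin k) ⊕ (Fin 1 ⊕ Fin k) → F,
      (g : Matrix _ _ F) *ᵥ x = -x → (g : Matrix _ _ F) *ᵥ y = -y → sform (Fin 1 ⊕ Fin k) F x y = 0
  · have hc : Fintype.card (Fin 1 ⊕ Fin k) = k + 1 := by simp [Nat.add_comm]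
    exact generic (by omega) (fun h => h1 (by omega)) (fun h => h2 (by omega)) g hgen
  simp only [not_forall, exists_prop] at hgen
  obtain ⟨h20, x, y, hx, hy, hxy⟩ := hgen
  obtain ⟨P, g', hg'⟩ := split_pair g hx hy hxy
  refine IsComm.of_conj (p := P) ?_
  rw [hg']
  exact hrest h20 g'

theorem isComm_symplectic [Fintype F] : ∀ k : ℕ, (k + 1 = 1 → 4 ≤ Fintype.card F) →
    (k + 1 = 2 → 3 ≤ Fintype.card F) → ∀ g : Matrix.symplecticGroup (Fin (k + 1)) F, IsComm g := by
  intro k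
  induction k with
  | zero =>
    intro h1 h2
    refine step 0 h1 h2 fun _ g' => IsComm.map emb (comm_prod negOne_comm ⟨1, 1, ?_⟩)
    exact Subtype.ext (Subsingleton.elim _ _)
  | succ k ih =>
    intro h1 h2
    refine step (k + 1) h1 h2 fun h20 g' => ?_
    have hq2 : Fintype.card F ≠ 2 := fun hq2 => h20 (by
      have := FiniteField.cast_card_eq_zero F
      rw [hq2] at this
      exact_mod_cast this)
    have := Fintype.one_lt_card (α := F)
    by_cases hs : k = 0 ∧ Fintype.card F = 3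
    · obtain ⟨rfl, hq⟩ := hs
      exact base43 hq g'
    · exact IsComm.map emb (comm_prod negOne_comm (ih (fun h => by omega) (fun h => by omega) g'))

end Cfsg.Lib.SympComm
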